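import Cfsg.Agent.Lib.Char.InvariantAbove
import Cfsg.Agent.Lib.Char.Clifford
import Cfsg.Agent.Lib.Char.GlaubermanSolvable

/-!
# Multiplicities along chains of subgroups and the Clifford correspondence inside an ambient group
-/

set_option autoImplicit false
set_option linter.unusedSectionVars false

namespace CfsgLib.Char.OddSection

open Cfsg CfsgLib.Char.Glauberman
open scoped ComplexConjugate CfsgLib.Char

variable {Γ : Type*} [Group Γ] [Fintype Γ]

section Chain

variable {A B D : Subgroup Γ} [Fintype A] [Fintype B] [Fintype D]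

/-- Restriction in two steps. -/
theorem classInner_res_trans (hBA : B ≤ A) (hDB : D ≤ B) {α : A → ℂ} (hα : IsCharacter A α)
    (γ : D → ℂ) :
    classInner (res (hDB.trans hBA) α) γ = ∑ β : IrrCharacter B,
      classInner (res hBA α) (β : B → ℂ) * classInner (res hDB (β : B → ℂ)) γ := by
  have h : res (hDB.trans hBA) α = ∑ β : IrrCharacter B,
      classInner (res hBA α) (β : B → ℂ) • res hDB (β : B → ℂ) := by
    funext d
    have h1 := congrFun (classFunction_expansion (isClassFunction_of_isCharacter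
      (isCharacter_res hBA hα))) ⟨(d : Γ), hDB d.2⟩
    simpa [res, Finset.sum_apply] using h1
  rw [h, classInner_sum_left]
  exact Finset.sum_congr rfl fun β _ => classInner_smul_left _ _ _

/-- A constituent of a constituent is a constituent. -/
theorem over_trans (hBA : B ≤ A) (hDB : D ≤ B) {α : A → ℂ} (hα : IsCharacter A α)
    {β : IrrCharacter B} {γ : D → ℂ} (hγ : IsCharacter D γ)
    (h1 : classInner (res hBA α) (β : B → ℂ) ≠ 0)
    (h2 : classInner (res hDB (β : B → ℂ)) γ ≠ 0) :
    classInner (res (hDB.trans hBA) α) γ ≠ 0 := by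
  choose a ha using fun b : IrrCharacter B => exists_nat_classInner
    (isCharacter_res hBA hα) (isCharacter_of_isIrr b.2)
  choose c hc using fun b : IrrCharacter B => exists_nat_classInner
    (isCharacter_res hDB (isCharacter_of_isIrr b.2)) hγ
  rw [classInner_res_trans hBA hDB hα, Finset.sum_congr rfl fun b _ => by rw [ha, hc]]
  rw [ha, Nat.cast_ne_zero] at h1
  rw [hc, Nat.cast_ne_zero] at h2
  simp only [← Nat.cast_mul, ← Nat.cast_sum, Nat.cast_ne_zero]
  exact (Finset.sum_pos' (fun b _ => Nat.zero_le _)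
    ⟨β, Finset.mem_univ _, Nat.mul_pos (Nat.pos_of_ne_zero h1) (Nat.pos_of_ne_zero h2)⟩).ne'

/-- A constituent below comes from a constituent in between. -/
theorem exists_between (hBA : B ≤ A) (hDB : D ≤ B) {α : A → ℂ} (hα : IsCharacter A α) {γ : D → ℂ}
    (h : classInner (res (hDB.trans hBA) α) γ ≠ 0) :
    ∃ β : IrrCharacter B, classInner (res hBA α) (β : B → ℂ) ≠ 0 ∧
      classInner (res hDB (β : B → ℂ)) γ ≠ 0 := by
  rw [classInner_res_trans hBA hDB hα] at h
  obtain ⟨β, -, hβ⟩ := Finset.exists_ne_zero_of_sum_ne_zero h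
  exact ⟨β, left_ne_zero_of_mul hβ, right_ne_zero_of_mul hβ⟩

end Chain

/-- Below a common irreducible constituent over an invariant function the restriction is a multiple. -/
theorem res_eq_smul {A N : Subgroup Γ} [Fintype A] [Fintype N] (hNA : N ≤ A)
    (hAN : A ≤ Subgroup.normalizer (N : Set Γ)) {φ : N → ℂ} (hφ : IsIrrCharacter N φ)
    (hstab : A ≤ stab N φ) {χ : A → ℂ} (hχ : IsIrrCharacter A χ)
    (hcon : classInner (res hNA χ) φ ≠ 0) :
    res hNA χ = classInner (res hNA χ) φ • φ := by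
  classical
  haveI : (N.subgroupOf A).Normal := (Subgroup.normal_subgroupOf_iff_le_normalizer hNA).mpr hAN
  set e := Subgroup.subgroupOfEquivOfLe hNA
  have hinv : ∀ g : A, conjBy (N.subgroupOf A) (fun x => φ (e x)) g = fun x => φ (e x) := by
    intro g; funext x
    obtain ⟨hg, hg'⟩ := hstab g.2
    rw [← hg' (e x)]
    exact congrArg φ (Subtype.ext rfl)
  have hi : classInner (fun x : N.subgroupOf A => χ x) (fun x => φ (e x)) =
      classInner (res hNA χ) φ := classInner_comp_mulEquiv e (res hNA χ) φ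
  have h := clifford_invariant (N.subgroupOf A) hχ (isIrrCharacter_comp_mulEquiv e hφ) hinv
    (by rw [hi]; exact hcon)
  rw [hi] at h
  funext n
  have h2 := congrFun h (e.symm n)
  simp only [Pi.smul_apply, MulEquiv.apply_symm_apply] at h2
  exact h2

section Pair

variable {A N A₀ : Subgroup Γ} [Fintype A] [Fintype N] [Fintype A₀] (hNA : N ≤ A)
  (hAN : A ≤ Subgroup.normalizer (N : Set Γ)) {φ : IrrCharacter N}
  (hA₀ : A₀ = A ⊓ stab N (φ : N → ℂ))

include hNA hAN hA₀

theorem pair_le : A₀ ≤ A := hA₀.le.trans inf_le_left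

theorem pair_ge : N ≤ A₀ := by
  rw [hA₀]
  refine le_inf hNA fun n hn => ⟨Subgroup.le_normalizer hn, fun g => ?_⟩
  rw [← isClassFunction_irr φ g ⟨n, hn⟩]
  exact congrArg (φ : N → ℂ) (Subtype.ext rfl)

/-- The Clifford correspondence, recorded through multiplicities. -/
theorem clifford_pair :
    (∀ χ : IrrCharacter A, classInner (res hNA (χ : A → ℂ)) (φ : N → ℂ) ≠ 0 →
      ∃ χ₀ : IrrCharacter A₀,
        classInner (res (pair_ge hNA hAN hA₀) (χ₀ : A₀ → ℂ)) (φ : N → ℂ) ≠ 0 ∧
        classInner (res (pair_le hNA hAN hA₀) (χ : A → ℂ)) (χ₀ : A₀ → ℂ) = 1 ∧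
        ∀ η : IrrCharacter A₀,
          classInner (res (pair_ge hNA hAN hA₀) (η : A₀ → ℂ)) (φ : N → ℂ) ≠ 0 →
          classInner (res (pair_le hNA hAN hA₀) (χ : A → ℂ)) (η : A₀ → ℂ) ≠ 0 → η = χ₀) ∧
    (∀ χ₀ : IrrCharacter A₀,
      classInner (res (pair_ge hNA hAN hA₀) (χ₀ : A₀ → ℂ)) (φ : N → ℂ) ≠ 0 →
      ∃ χ : IrrCharacter A, classInner (res hNA (χ : A → ℂ)) (φ : N → ℂ) ≠ 0 ∧
        classInner (res (pair_le hNA hAN hA₀) (χ : A → ℂ)) (χ₀ : A₀ → ℂ) = 1 ∧
        ∀ χ' : IrrCharacter A,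
          classInner (res (pair_le hNA hAN hA₀) (χ' : A → ℂ)) (χ₀ : A₀ → ℂ) ≠ 0 → χ' = χ) := by
  classical
  have hle := pair_le hNA hAN hA₀
  have hge := pair_ge hNA hAN hA₀
  haveI : (N.subgroupOf A).Normal := (Subgroup.normal_subgroupOf_iff_le_normalizer hNA).mpr hAN
  set T := A₀.subgroupOf A
  set eN := Subgroup.subgroupOfEquivOfLe hNA
  set eT := Subgroup.subgroupOfEquivOfLe hle
  set φ' : N.subgroupOf A → ℂ := fun x => (φ : N → ℂ) (eN x)
  have hφ' : IsIrrCharacter (N.subgroupOf A) φ' := isIrrCharacter_comp_mulEquiv eN φ.2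
  have hNT : N.subgroupOf A ≤ T := Subgroup.comap_mono hge
  have hT : ∀ g, g ∈ T ↔ conjBy (N.subgroupOf A) φ' g = φ' := by
    intro g
    rw [Subgroup.mem_subgroupOf]
    constructor
    · intro hg
      rw [hA₀] at hg
      obtain ⟨hy, hy'⟩ := hg.2
      funext x
      rw [show φ' x = (φ : N → ℂ) (eN x) from rfl, ← hy' (eN x)]
      exact congrArg (φ : N → ℂ) (Subtype.ext rfl)
    · intro hg
      rw [hA₀]
      refine ⟨g.2, hAN g.2, fun n => ?_⟩
      have h := congrFun hg (eN.symm n)
      simp only [φ', MulEquiv.apply_symm_apply] at h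
      rw [← h]
      exact congrArg (φ : N → ℂ) (Subtype.ext rfl)
  have hres : ∀ η : A₀ → ℂ, classInner (resTo (N.subgroupOf A) T hNT (fun t => η (eT t))) φ' =
      classInner (res hge η) (φ : N → ℂ) := fun η => classInner_comp_mulEquiv eN (res hge η) φ
  have hresA : ∀ χ : A → ℂ, classInner (fun x : N.subgroupOf A => χ x) φ' =
      classInner (res hNA χ) (φ : N → ℂ) := fun χ => classInner_comp_mulEquiv eN (res hNA χ) φ
  have hrec : ∀ (χ : IrrCharacter A) (η : IrrCharacter A₀),
      classInner (res hle (χ : A → ℂ)) (η : A₀ → ℂ) =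
        classInner (χ : A → ℂ) (indFun T fun t => (η : A₀ → ℂ) (eT t)) := by
    intro χ η
    rw [frobenius_reciprocity' T _ (isClassFunction_irr χ)]
    exact (classInner_comp_mulEquiv eT (res hle (χ : A → ℂ)) η).symm
  constructor
  · intro χ hχ
    obtain ⟨ψ, hψ, hind, hmul⟩ := clifford_correspondence_surjective (N.subgroupOf A) T hφ' hT hNT
      χ.2 (by rw [hresA]; exact hχ)
    set χ₀ : IrrCharacter A₀ := ⟨_, isIrrCharacter_comp_mulEquiv eT.symm hψ⟩
    have hψeq : (fun t => (χ₀ : A₀ → ℂ) (eT t)) = ψ := funext fun t =>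
      congrArg ψ (eT.symm_apply_apply t)
    have h0 : classInner (res hge (χ₀ : A₀ → ℂ)) (φ : N → ℂ) ≠ 0 := by
      rw [← hres, hψeq, hmul, hresA]; exact hχ
    refine ⟨χ₀, h0, by rw [hrec, hψeq, hind, classInner_irr_self χ.2], fun η hη h1 => ?_⟩
    rw [hrec] at h1
    have hi := (clifford_correspondence (N.subgroupOf A) T hφ' hT hNT
      (isIrrCharacter_comp_mulEquiv eT η.2) (by rw [hres]; exact hη))
    rw [classInner_irr χ.2 hi.1] at h1
    have he : indFun T (fun t => (η : A₀ → ℂ) (eT t)) = indFun T ψ := by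
      rw [hind]; by_contra hne; exact h1 (if_neg (Ne.symm hne))
    have := ((clifford_correspondence (N.subgroupOf A) T hφ' hT hNT hψ (by
      rw [hmul, hresA]; exact hχ)).2.2 _ (isIrrCharacter_comp_mulEquiv eT η.2)
        (by rw [hres]; exact hη) he)
    refine Subtype.ext (funext fun a => ?_)
    have h2 := congrFun this (eT.symm a)
    simp only [MulEquiv.apply_symm_apply] at h2
    exact h2
  · intro χ₀ h0
    obtain ⟨hirr, hmul, -⟩ := clifford_correspondence (N.subgroupOf A) T hφ' hT hNT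
      (isIrrCharacter_comp_mulEquiv eT χ₀.2) (by rw [hres]; exact h0)
    refine ⟨⟨_, hirr⟩, by rw [← hresA, hmul, hres]; exact h0,
      by rw [hrec, classInner_irr_self hirr], fun χ' h1 => Subtype.ext ?_⟩
    rw [hrec, classInner_irr χ'.2 hirr] at h1
    by_contra hne
    exact h1 (if_neg hne)

end Pair

end CfsgLib.Char.OddSection
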