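import Cfsg.Agent.Lib.Char.OddSection.Parity
import Cfsg.Agent.Lib.Char.OddSection.Section
import Cfsg.Agent.Lib.Char.InducedRestrict
import Cfsg.Agent.S4447

/-!
# The invariant core: the character of the bottom subgroup is invariant in the whole group
-/

set_option autoImplicit false
set_option linter.unusedSectionVars false

namespace CfsgLib.Char.OddSection

open Cfsg CfsgLib.Char.Glauberman CfsgLib.Coprime
open scoped ComplexConjugate CfsgLib.Char

variable {Γ : Type*} [Group Γ] [Fintype Γ]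

/-- An odd order group `G = K H` with abelian `K/L`, `L = K ⊓ H`, and `S` acting coprimely with
fixed points inside `H`. -/
structure Data (G K L H S : Subgroup Γ) : Prop where
  hLK : L ≤ K
  hKG : K ≤ G
  hLH : L ≤ H
  hHG : H ≤ G
  hKn : G ≤ Subgroup.normalizer (K : Set Γ)
  hLn : G ≤ Subgroup.normalizer (L : Set Γ)
  hSG : S ≤ Subgroup.normalizer (G : Set Γ)
  hSK : S ≤ Subgroup.normalizer (K : Set Γ)
  hSL : S ≤ Subgroup.normalizer (L : Set Γ)
  hSH : S ≤ Subgroup.normalizer (H : Set Γ)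
  cop : (Nat.card G).Coprime (Nat.card S)
  solv : Group.IsSolvable G
  odd : Odd (Nat.card G)
  abelian : ∀ a ∈ K, ∀ b ∈ K, a * b * a⁻¹ * b⁻¹ ∈ L
  hgen : K ⊔ fix G S = G
  hH : L ⊔ fix G S = H
  hinf : K ⊓ H = L

/-- Two invariant layers over an invariant character differ by a linear character. -/
theorem exists_linear {M : Type*} [Group M] [Fintype M] (N : Subgroup M) [N.Normal] [Fintype N]
    (hab : ∀ x y : M, x * y * x⁻¹ * y⁻¹ ∈ N) {φ : N → ℂ} (hφ : IsIrrCharacter N φ)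
    (hinv : ∀ g, conjBy N φ g = φ) {θ θ' : M → ℂ} (hθ : IsIrrCharacter M θ)
    (hθ' : IsIrrCharacter M θ') (h : classInner (fun n : N => θ n) φ ≠ 0)
    (h' : classInner (fun n : N => θ' n) φ ≠ 0) :
    ∃ β : M →* ℂˣ, (∀ n ∈ N, β n = 1) ∧ θ' = fun x => (β x : ℂ) * θ x := by
  classical
  haveI : Finite (LinTriv N) := by
    haveI : Finite (M →* ℂˣ) := Finite.of_equiv _ (linearEquiv (G := M))
    infer_instance
  haveI : Fintype (LinTriv N) := Fintype.ofFinite _
  obtain ⟨-, hsum⟩ := sum_linTriv N hab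
  have hres := clifford_invariant N hθ hφ hinv h
  have hmain : classInner (fun n : N => θ n) φ • indFun N φ =
      ∑ β : LinTriv N, fun x => (β.1 x : ℂ) * θ x := by
    rw [← indFun_smul, ← hres, show (fun n : N => θ n) = (fun _ : N => (1 : ℂ)) * fun n : N => θ n
      from (one_mul _).symm, indFun_mul N θ (isClassFunction_of_isCharacter (isCharacter_of_isIrr hθ)),
      hsum, Finset.sum_mul]
    rfl
  have h1 : classInner (classInner (fun n : N => θ n) φ • indFun N φ) θ' ≠ 0 := by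
    rw [classInner_smul_left,
      frobenius_reciprocity N _ (isClassFunction_of_isCharacter (isCharacter_of_isIrr hθ')),
      ← classInner_conj_symm (fun n : N => θ' n) φ]
    exact mul_ne_zero h fun h0 => h' (by simpa using h0)
  rw [hmain, classInner_sum_left] at h1
  obtain ⟨β, -, hβ⟩ := Finset.exists_ne_zero_of_sum_ne_zero h1
  rw [classInner_irr (isIrrCharacter_linear_mul hθ β.1) hθ'] at hβ
  refine ⟨β.1, β.2, ?_⟩
  by_contra hne
  exact hβ (if_neg (Ne.symm hne))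

namespace Data

variable {G K L H S : Subgroup Γ} (D : Data G K L H S)

include D

theorem solvK : Group.IsSolvable K := isSolvable_of_le D.hKG D.solv

theorem copK : (Nat.card S).Coprime (Nat.card K) :=
  D.cop.symm.coprime_dvd_right (Subgroup.card_dvd_of_le D.hKG)

theorem fixK_le : K ⊓ Subgroup.centralizer (S : Set Γ) ≤ L := fun x hx =>
  D.hinf ▸ ⟨hx.1, D.hH ▸ Subgroup.mem_sup_right ⟨D.hKG hx.1, hx.2⟩⟩

/-- The invariant character above is unique. -/
theorem above_unique [Fintype K] [Fintype L] {φ : IrrCharacter L} (hG : G ≤ stab L (φ : L → ℂ))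
    {θ θ' : IrrCharacter K} (hθ : Inv K S (θ : K → ℂ)) (hθ' : Inv K S (θ' : K → ℂ))
    (h : classInner (res D.hLK (θ : K → ℂ)) (φ : L → ℂ) ≠ 0)
    (h' : classInner (res D.hLK (θ' : K → ℂ)) (φ : L → ℂ) ≠ 0) : θ' = θ := by
  classical
  haveI := Fintype.ofFinite S
  set N := L.subgroupOf K with hN
  haveI : N.Normal := (Subgroup.normal_subgroupOf_iff_le_normalizer D.hLK).mpr (D.hKG.trans D.hLn)
  set e := Subgroup.subgroupOfEquivOfLe D.hLK
  have hi : ∀ η : K → ℂ, classInner (fun n : N => η n) (fun n => (φ : L → ℂ) (e n)) =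
      classInner (res D.hLK η) (φ : L → ℂ) := fun η => classInner_comp_mulEquiv e (res D.hLK η) φ
  obtain ⟨β, hβN, hβ⟩ := exists_linear N (fun x y => Subgroup.mem_subgroupOf.mpr (D.abelian x x.2 y y.2))
    (isIrrCharacter_comp_mulEquiv e φ.2) (fun g => funext fun n => by
      obtain ⟨hg, hg'⟩ := hG (D.hKG g.2)
      rw [← hg' (e n)]
      exact congrArg (φ : L → ℂ) (Subtype.ext rfl))
    θ.2 θ'.2 (by rw [hi]; exact h) (by rw [hi]; exact h')
  refine Subtype.ext (funext fun x => ?_)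
  rw [hβ]
  by_cases hx : (θ : K → ℂ) x = 0
  · simp only [hx, mul_zero]
  suffices hb : β x = 1 by simp [hb]
  let Q := K ⧸ N
  letI : CommGroup Q :=
    { (inferInstance : Group Q) with
      mul_comm := fun a b => by
        induction a using QuotientGroup.induction_on with
        | _ a =>
          induction b using QuotientGroup.induction_on with
          | _ b =>
            rw [← QuotientGroup.mk_mul, ← QuotientGroup.mk_mul, QuotientGroup.eq]
            have := D.abelian _ (K.inv_mem b.2) _ (K.inv_mem a.2)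
            simpa [Subgroup.mem_subgroupOf, hN, mul_assoc] using this }
  let π : K →* Q := QuotientGroup.mk' N
  let βQ : Q →* ℂˣ := QuotientGroup.lift N β fun n hn => MonoidHom.mem_ker.mpr (hβN n hn)
  let c : S → K ≃* K := fun s => conjEquiv (D.hSK s.2)
  have hfix : ∀ s : S, β (c s x) = β x := by
    intro s
    have h1 := hθ' s s.2 x (c s x) rfl
    rw [congrFun hβ x, congrFun hβ (c s x), hθ s s.2 x (c s x) rfl] at h1
    exact Units.ext (mul_right_cancel₀ hx h1)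
  obtain ⟨k, hk⟩ := QuotientGroup.mk'_surjective N (∏ s : S, π (c s x))
  have hkfix : ∀ a ∈ S, (k : Γ)⁻¹ * (a * k * a⁻¹) ∈ L := by
    intro a ha
    have hce : ∀ n : K, n ∈ N → c ⟨a, ha⟩ n ∈ N := fun n hn =>
      (Subgroup.mem_normalizer_iff.mp (D.hSL ha) _).mp hn
    let cQ : Q →* Q := QuotientGroup.map N N (c ⟨a, ha⟩).toMonoidHom hce
    have h1 : cQ (π k) = π k := by
      rw [hk, map_prod]
      refine Fintype.prod_equiv (Equiv.mulLeft (⟨a, ha⟩ : S)) _ _ fun s => ?_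
      show π (c ⟨a, ha⟩ (c s x)) = π (c (⟨a, ha⟩ * s) x)
      exact congrArg π (Subtype.ext (by simp [c, mul_assoc]))
    have h2 : π k = π (c ⟨a, ha⟩ k) := h1.symm
    exact Subgroup.mem_subgroupOf.mp (QuotientGroup.eq.mp h2 : k⁻¹ * c ⟨a, ha⟩ k ∈ N)
  obtain ⟨d, hd, hkd⟩ := exists_centralizer_mem_coset D.hSK D.copK (Or.inr D.solvK) D.hLK D.hSL k.2 hkfix
  have hkL : k ∈ N := by
    rw [hN, Subgroup.mem_subgroupOf, show (k : Γ) = d * ((k : Γ)⁻¹ * d)⁻¹ by group]
    exact L.mul_mem (D.fixK_le hd) (L.inv_mem hkd)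
  have h2 : β x ^ Nat.card S = 1 := by
    have h3 := congrArg βQ hk
    rw [map_prod] at h3
    have h4 : βQ (π k) = 1 := hβN k hkL
    rw [← h4, h3, Finset.prod_congr rfl fun s _ => show βQ (π (c s x)) = β x from hfix s,
      Finset.prod_const, Finset.card_univ, Nat.card_eq_fintype_card]
  have h5 : β x ^ Nat.card K = 1 := by rw [← map_pow, pow_card_eq_one', map_one]
  rw [← orderOf_eq_one_iff]
  exact Nat.eq_one_of_dvd_coprimes D.copK (orderOf_dvd_of_pow_eq_one h2) (orderOf_dvd_of_pow_eq_one h5)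

/-- The unique invariant `θ` above `φ` is invariant in `G`. -/
theorem exists_above [Fintype K] [Fintype L] {φ : IrrCharacter L} (hφ : Inv L S (φ : L → ℂ))
    (hG : G ≤ stab L (φ : L → ℂ)) :
    ∃ θ : IrrCharacter K, classInner (res D.hLK (θ : K → ℂ)) (φ : L → ℂ) ≠ 0 ∧
      Inv K S (θ : K → ℂ) ∧ G ≤ stab K (θ : K → ℂ) := by
  have hd : L.relIndex K ∣ Nat.card G :=
    ((Subgroup.index_dvd_card (L.subgroupOf K)).trans (Subgroup.card_dvd_of_le D.hKG))
  obtain ⟨θ, hθ, hinv⟩ := InvariantAbove.exists_invariant_abelian (S := S) D.hLK (D.hKG.trans D.hLn)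
    D.abelian D.hSK D.hSL (D.cop.coprime_dvd_left hd) hφ
  refine ⟨θ, hθ, hinv, ?_⟩
  rw [← D.hgen]
  refine sup_le (fun k hk => ⟨Subgroup.le_normalizer hk, fun g => ?_⟩) fun c hc => ?_
  · rw [← isClassFunction_irr θ g ⟨k, hk⟩]
    exact congrArg (θ : K → ℂ) (Subtype.ext rfl)
  obtain ⟨hcG, hcS⟩ := Subgroup.mem_inf.mp hc
  have hcK := D.hKn hcG
  refine ⟨hcK, congrFun (congrArg Subtype.val (D.above_unique hG hinv (θ' :=
    ⟨fun g => (θ : K → ℂ) (conjEquiv hcK g), isIrrCharacter_comp_mulEquiv _ θ.2⟩) ?_ hθ ?_))⟩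
  · intro s hs g g' eg
    refine hinv s hs _ _ ?_
    have h1 : s * c = c * s := Subgroup.mem_centralizer_iff.mp hcS s hs
    show c * (g' : Γ) * c⁻¹ = s * (c * (g : Γ) * c⁻¹) * s⁻¹
    rw [eg, ← mul_assoc c (s * (g : Γ)), ← mul_assoc c s, ← h1]
    have h2 : s⁻¹ * c⁻¹ = c⁻¹ * s⁻¹ := by rw [← mul_inv_rev, ← mul_inv_rev, h1]
    rw [mul_assoc (s * c * (g : Γ)), h2]
    group
  · obtain ⟨hcL, hcL'⟩ := hG hcG
    have h1 := classInner_comp_mulEquiv (conjEquiv hcL) (res D.hLK (θ : K → ℂ)) (φ : L → ℂ)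
    rw [show (fun n => (φ : L → ℂ) (conjEquiv hcL n)) = φ from funext hcL'] at h1
    exact h1.trans_ne hθ

/-- The context of matrices for `θ`, and the fixed sign operator. -/
theorem exists_fixed_sign [Fintype K] [Fintype L] {φ : IrrCharacter L} (hG : G ≤ stab L (φ : L → ℂ))
    {θ : IrrCharacter K} (hθ : classInner (res D.hLK (θ : K → ℂ)) (φ : L → ℂ) ≠ 0)
    (hθS : Inv K S (θ : K → ℂ)) (hθG : G ≤ stab K (θ : K → ℂ)) :
    ∃ (d : ℕ) (T : K →* Mat d) (P : Mat d), (∀ k, (T k).trace = (θ : K → ℂ) k) ∧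
      IsSign T (L.subgroupOf K) P ∧
      ∀ h ∈ H, ∃ U : (Mat d)ˣ, (∀ k k' : K, (k' : Γ) = h * k * h⁻¹ →
        (U : Mat d) * T k * ((U⁻¹ : (Mat d)ˣ) : Mat d) = T k') ∧
          (U : Mat d) * P * ((U⁻¹ : (Mat d)ˣ) : Mat d) = P := by
  classical
  obtain ⟨d, T, hT⟩ := exists_matrixRep (isCharacter_of_isIrr θ.2)
  have hirr : IsIrrCharacter K fun k => (T k).trace := by
    rw [show (fun k => (T k).trace) = (θ : K → ℂ) from funext hT]; exact θ.2
  set N := L.subgroupOf K with hN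
  set eN := Subgroup.subgroupOfEquivOfLe D.hLK
  obtain ⟨f, W, hW⟩ := exists_matrixRep (isCharacter_of_isIrr (isIrrCharacter_comp_mulEquiv eN φ.2))
  obtain ⟨e, he⟩ := exists_nat_classInner (isCharacter_res D.hLK (isCharacter_of_isIrr θ.2))
    (isCharacter_of_isIrr φ.2)
  have he0 : e ≠ 0 := fun h0 => hθ (by rw [he, h0, Nat.cast_zero])
  have hres := res_eq_smul D.hLK (D.hKG.trans D.hLn) φ.2 (D.hKG.trans hG) θ.2 hθ
  rw [he] at hres
  obtain ⟨Φ, hΦ, hinj⟩ := exists_lift W (T.comp N.subtype) e fun l => by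
    have h := congrFun hres (eN l)
    rw [Pi.smul_apply, smul_eq_mul] at h
    show (T (l : K)).trace = _
    rw [hT, hW, ← h]
    rfl
  have hd : Odd d := by
    obtain ⟨dd, hdd, -, hdvd⟩ := exists_degree_dvd_card θ.2
    have h1 : (dd : ℂ) = d := by rw [← hdd, ← hT, map_one, Matrix.trace_one, Fintype.card_fin]
    rw [← (Nat.cast_inj.mp h1 : dd = d)]
    exact D.odd.of_dvd_nat (hdvd.trans (Subgroup.card_dvd_of_le D.hKG))
  let ctx : Ctx T N :=
    { f := f, W := W, Φ := Φ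
      irrW := by
        rw [show (fun l => (W l).trace) = fun l => (φ : L → ℂ) (eN l) from funext hW]
        exact isIrrCharacter_comp_mulEquiv eN φ.2
      irr := hirr
      inj := hinj he0
      res := hΦ
      inv := fun k l l' hl => by
        rw [hW, hW]
        obtain ⟨hy, hy'⟩ := hG (D.hKG k.2)
        rw [← hy' (eN l)]
        exact congrArg (φ : L → ℂ) (Subtype.ext (congrArg (Subtype.val : K → Γ) hl))
      abelian := fun a b => Subgroup.mem_subgroupOf.mpr (D.abelian a a.2 b b.2)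
      normal := (Subgroup.normal_subgroupOf_iff_le_normalizer D.hLK).mpr (D.hKG.trans D.hLn)
      oddK := D.odd.of_dvd_nat (Subgroup.card_dvd_of_le D.hKG)
      oddd := hd }
  -- the action of the stabiliser
  set Γ₀ := stab K (θ : K → ℂ) ⊓ Subgroup.normalizer (L : Set Γ) with hΓ₀
  have hGΓ₀ : G ≤ Γ₀ := le_inf hθG D.hLn
  have hSΓ₀ : S ≤ Γ₀ := le_inf ((inv_iff_le_stab D.hSK).mp hθS) D.hSL
  have hnK : ∀ g : Γ₀, (g : Γ) ∈ Subgroup.normalizer (K : Set Γ) := fun g => g.2.1.1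
  choose U hU using fun g : Γ₀ => exists_conj_of_trace_eq T (T.comp (conjEquiv (hnK g)).toMonoidHom)
    fun k => by
      show _ = (T (conjEquiv (hnK g) k)).trace
      obtain ⟨hy, hy'⟩ := g.2.1
      rw [hT, hT]
      exact (hy' k).symm
  have hU' : ∀ (g : Γ₀) (k k' : K), (k' : Γ) = g * k * (g : Γ)⁻¹ →
      (U g : Mat d) * T k * (((U g)⁻¹ : (Mat d)ˣ) : Mat d) = T k' := by
    intro g k k' hk'
    rw [← hU g k, show k' = conjEquiv (hnK g) k from Subtype.ext hk']
    rfl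
  let cm : (Mat d)ˣ → (Mat d →ₐ[ℂ] Mat d) := fun V =>
    MulSemiringAction.toAlgHom ℂ (Mat d) (ConjAct.toConjAct V)
  have hcm : ∀ V X, cm V X = (V : Mat d) * X * ((V⁻¹ : (Mat d)ˣ) : Mat d) := fun V X =>
    ConjAct.units_smul_def _ _
  have hext : ∀ f f' : Mat d →ₐ[ℂ] Mat d, (∀ k, f (T k) = f' (T k)) → ∀ X, f X = f' X :=
    fun f f' h X => LinearMap.congr_fun (linearMap_ext hirr (f := f.toLinearMap) (f' := f'.toLinearMap) h) X
  have hg : ∀ (g : Γ₀) (k : K), cm (U g) (T k) = T (conjEquiv (hnK g) k) := fun g k => by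
    rw [hcm]; exact hU' g k _ rfl
  letI act : MulAction Γ₀ (Mat d) :=
    { smul := fun g X => cm (U g) X
      one_smul := fun X => hext (cm (U 1)) (AlgHom.id ℂ _) (fun k => by
        rw [hg, AlgHom.id_apply]; exact congrArg T (Subtype.ext (by simp))) X
      mul_smul := fun a b X => hext (cm (U (a * b))) ((cm (U a)).comp (cm (U b))) (fun k => by
        rw [AlgHom.comp_apply, hg, hg, hg]
        exact congrArg T (Subtype.ext (by simp [mul_assoc]))) X }
  have hsmul : ∀ (g : Γ₀) (X : Mat d),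
      g • X = (U g : Mat d) * X * (((U g)⁻¹ : (Mat d)ˣ) : Mat d) := fun g X => hcm _ X
  have hK : ∀ (g : Γ₀) (hgK : (g : Γ) ∈ K) (X : Mat d),
      g • X = T ⟨g, hgK⟩ * X * T (⟨g, hgK⟩ : K)⁻¹ := by
    intro g hgK X
    have := linearMap_ext hirr (f := (cm (U g)).toLinearMap)
      (f' := (LinearMap.mulLeft ℂ (T ⟨g, hgK⟩)).comp (LinearMap.mulRight ℂ (T (⟨g, hgK⟩ : K)⁻¹)))
      fun k => by
        show cm (U g) (T k) = T ⟨g, hgK⟩ * (T k * T (⟨g, hgK⟩ : K)⁻¹)
        rw [hg, ← map_mul, ← map_mul]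
        exact congrArg T (Subtype.ext (by simp [mul_assoc]))
    rw [mul_assoc]
    exact LinearMap.congr_fun this X
  have hsign : ∀ (g : Γ₀) (P : Mat d), IsSign T N P → IsSign T N (g • P) := by
    intro g P hP
    rw [hsmul]
    refine hP.map (conjEquiv (hnK g)) (fun k => ?_) (U g) fun k => hU' g k _ rfl
    exact ((Subgroup.mem_normalizer_iff.mp g.2.2 (k : Γ))).symm
  set A := S.subgroupOf Γ₀ with hA
  set K' := K.subgroupOf Γ₀ with hK'
  have hAK : A ≤ Subgroup.normalizer (K' : Set Γ₀) := fun a ha =>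
    Subgroup.mem_normalizer_iff.mpr fun x => Subgroup.mem_normalizer_iff.mp (D.hSK ha) (x : Γ)
  have hKΓ₀ : K ≤ Γ₀ := D.hKG.trans hGΓ₀
  have hcop : (Nat.card A).Coprime (Nat.card K') := by
    rw [hA, hK', Nat.card_congr (Subgroup.subgroupOfEquivOfLe hSΓ₀).toEquiv,
      Nat.card_congr (Subgroup.subgroupOfEquivOfLe hKΓ₀).toEquiv]
    exact D.copK
  have hsolv : Group.IsSolvable A ∨ Group.IsSolvable K' := by
    haveI := D.solvK
    exact Or.inr (Group.isSolvable_of_surjective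
      (f := (Subgroup.subgroupOfEquivOfLe hKΓ₀).symm.toMonoidHom)
      (Subgroup.subgroupOfEquivOfLe hKΓ₀).symm.surjective)
  have htrans : ∀ P P', IsSign T N P → IsSign T N P' → ∃ k ∈ K', k • P = P' := by
    intro P P' hP hP'
    obtain ⟨z, hz⟩ := ctx.sign_conj hP hP'
    exact ⟨⟨z, hKΓ₀ z.2⟩, z.2, (hK _ z.2 P).trans hz.symm⟩
  obtain ⟨P₀, hP₀⟩ := ctx.exists_sign
  obtain ⟨k₁, -, hfix⟩ := exists_fixed_of_coprime hAK hcop hsolv P₀ fun a _ => by
    obtain ⟨k, hk, hk'⟩ := htrans P₀ (a • P₀) hP₀ (hsign a P₀ hP₀)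
    exact ⟨k, hk, hk'.symm⟩
  set P := k₁ • P₀ with hP
  have hPs : IsSign T N P := hsign k₁ P₀ hP₀
  have hLfix : ∀ g : Γ₀, (g : Γ) ∈ L → g • P = P := by
    intro g hgL
    rw [hK g (D.hLK hgL), ← (hPs.1 ⟨g, D.hLK hgL⟩ hgL).eq, mul_assoc, ← map_mul, mul_inv_cancel,
      map_one, mul_one]
  have huniq : ∀ P', IsSign T N P' → (∀ a ∈ A, a • P' = P') → P' = P := by
    intro P' hP' hfix'
    obtain ⟨k, hk, hkP⟩ := htrans P P' hPs hP'
    obtain ⟨c, hc, hcP⟩ := exists_centralizer_smul hAK hcop hsolv hfix hk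
      (by rw [hkP]; exact hfix')
    rw [← hkP, ← hcP]
    refine hLfix c (D.fixK_le ⟨hc.1, Subgroup.mem_centralizer_iff.mpr fun s hs => ?_⟩)
    exact congrArg Subtype.val (Subgroup.mem_centralizer_iff.mp hc.2 ⟨s, hSΓ₀ hs⟩ hs)
  have hCfix : ∀ g : Γ₀, (g : Γ) ∈ fix G S → g • P = P := by
    intro g hg'
    refine huniq _ (hsign g P hPs) fun a ha => ?_
    have hcomm : a * g = g * a :=
      Subtype.ext (Subgroup.mem_centralizer_iff.mp hg'.2 (a : Γ) ha)
    rw [← mul_smul, hcomm, mul_smul, hfix a ha]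
  refine ⟨d, T, P, hT, hPs, fun h hh => ?_⟩
  have hle : H ≤ (MulAction.stabilizer Γ₀ P).map Γ₀.subtype := by
    rw [← D.hH]
    refine sup_le (fun l hl => ⟨⟨l, hKΓ₀ (D.hLK hl)⟩, hLfix _ hl, rfl⟩) fun c hc =>
      ⟨⟨c, hGΓ₀ hc.1⟩, hCfix _ hc, rfl⟩
  obtain ⟨g, hgP, rfl⟩ := hle hh
  exact ⟨U g, hU' g, (hsmul g P).symm.trans hgP⟩

/-- Parity of the multiplicities of a character isotypic on `K`. -/
theorem exists_parity [Fintype G] [Fintype H] [Fintype K] {d : ℕ} {T : K →* Mat d}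
    (hT : IsIrrCharacter K fun k => (T k).trace) {P : Mat d} (hP : IsSign T (L.subgroupOf K) P)
    (hfix : ∀ h ∈ H, ∃ U : (Mat d)ˣ, (∀ k k' : K, (k' : Γ) = h * k * h⁻¹ →
        (U : Mat d) * T k * ((U⁻¹ : (Mat d)ˣ) : Mat d) = T k') ∧
          (U : Mat d) * P * ((U⁻¹ : (Mat d)ˣ) : Mat d) = P)
    {χ : G → ℂ} (hχ : IsCharacter G χ) {m : ℕ}
    (hres : ∀ k : K, res D.hKG χ k = (m : ℂ) * (T k).trace) :
    ∃ c : IrrCharacter H → ℤ,
      (∀ (ξ : IrrCharacter H) (b : ℕ), classInner (res D.hHG χ) (ξ : H → ℂ) = (b : ℂ) →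
        c ξ ≡ b [ZMOD 2]) ∧ ((∑ ξ, c ξ ^ 2 : ℤ) : ℂ) = classInner χ χ := by
  classical
  haveI : (K.subgroupOf G).Normal := (Subgroup.normal_subgroupOf_iff_le_normalizer D.hKG).mpr D.hKn
  haveI : (L.subgroupOf G).Normal :=
    (Subgroup.normal_subgroupOf_iff_le_normalizer (D.hLK.trans D.hKG)).mpr D.hLn
  set eK := Subgroup.subgroupOfEquivOfLe D.hKG
  set eH := Subgroup.subgroupOfEquivOfLe D.hHG
  have hsup : K.subgroupOf G ⊔ H.subgroupOf G = ⊤ := by
    rw [← Subgroup.subgroupOf_sup D.hKG D.hHG, Subgroup.subgroupOf_eq_top]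
    calc G = K ⊔ fix G S := D.hgen.symm
      _ ≤ K ⊔ H := sup_le_sup_left (D.hH ▸ le_sup_right) K
  have hinf : K.subgroupOf G ⊓ H.subgroupOf G = L.subgroupOf G := by
    rw [← D.hinf]; rfl
  have hP3 : ∀ k : K.subgroupOf G, T (eK k) * P * T (eK k) * P ∈
      relSpan (T.comp eK.toMonoidHom) ((L.subgroupOf G).subgroupOf (K.subgroupOf G)) := fun k => by
    refine Submodule.span_mono ?_ (hP.2.2.1 (eK k))
    rintro _ ⟨l, hl, rfl⟩
    exact ⟨eK.symm l, hl, congrArg T (eK.apply_symm_apply l)⟩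
  obtain ⟨c, hc, hn⟩ := parity (K.subgroupOf G) (L.subgroupOf G) (H.subgroupOf G)
    (Subgroup.comap_mono D.hLK) (Subgroup.comap_mono D.hLH) hsup hinf
    (fun a ha b hb => D.abelian _ ha _ hb) D.odd (T := T.comp eK.toMonoidHom)
    (isIrrCharacter_comp_mulEquiv eK hT) hP.2.1 hP3
    (fun h hh => by
      obtain ⟨U, hU, hUP⟩ := hfix h hh
      exact ⟨U, fun k k' hk => hU (eK k) (eK k') (congrArg Subtype.val hk), hUP⟩)
    hχ (m := m) (fun k => hres (eK k))
  let E : IrrCharacter H ≃ IrrCharacter (H.subgroupOf G) :=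
    { toFun := fun ξ => ⟨_, isIrrCharacter_comp_mulEquiv eH ξ.2⟩
      invFun := fun ξ => ⟨_, isIrrCharacter_comp_mulEquiv eH.symm ξ.2⟩
      left_inv := fun ξ => Subtype.ext (funext fun x =>
        congrArg (ξ : H → ℂ) (eH.apply_symm_apply x))
      right_inv := fun ξ => Subtype.ext (funext fun x =>
        congrArg (ξ : H.subgroupOf G → ℂ) (eH.symm_apply_apply x)) }
  refine ⟨fun ξ => c (E ξ), fun ξ b hb => hc (E ξ) b ?_, ?_⟩
  · exact (classInner_comp_mulEquiv eH (res D.hHG χ) (ξ : H → ℂ)).trans hb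
  · rw [← hn, ← Equiv.sum_comp E]

/-- The correspondence when `φ` is invariant in `G`. -/
theorem core [Fintype G] [Fintype H] [Fintype L] {φ : IrrCharacter L} (hφ : Inv L S (φ : L → ℂ))
    (hG : G ≤ stab L (φ : L → ℂ)) :
    (∀ χ : IrrCharacter G, Inv G S (χ : G → ℂ) →
      classInner (res (D.hLK.trans D.hKG) (χ : G → ℂ)) (φ : L → ℂ) ≠ 0 →
      ∃ ψ₀ : IrrCharacter H, Inv H S (ψ₀ : H → ℂ) ∧
        classInner (res D.hLH (ψ₀ : H → ℂ)) (φ : L → ℂ) ≠ 0 ∧
        ∀ (ψ : IrrCharacter H) (m : ℕ),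
          classInner (res D.hHG (χ : G → ℂ)) (ψ : H → ℂ) = (m : ℂ) → (Odd m ↔ ψ = ψ₀)) ∧
    (∀ χ χ' : IrrCharacter G, Inv G S (χ : G → ℂ) → Inv G S (χ' : G → ℂ) →
      classInner (res (D.hLK.trans D.hKG) (χ : G → ℂ)) (φ : L → ℂ) ≠ 0 →
      classInner (res (D.hLK.trans D.hKG) (χ' : G → ℂ)) (φ : L → ℂ) ≠ 0 →
      ∀ (ψ : IrrCharacter H) (m m' : ℕ),
        classInner (res D.hHG (χ : G → ℂ)) (ψ : H → ℂ) = (m : ℂ) → Odd m →
        classInner (res D.hHG (χ' : G → ℂ)) (ψ : H → ℂ) = (m' : ℂ) → Odd m' → χ = χ') ∧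
    (∀ ξ : IrrCharacter H, Inv H S (ξ : H → ℂ) →
      classInner (res D.hLH (ξ : H → ℂ)) (φ : L → ℂ) ≠ 0 →
      ∃ χ : IrrCharacter G, Inv G S (χ : G → ℂ) ∧
        classInner (res (D.hLK.trans D.hKG) (χ : G → ℂ)) (φ : L → ℂ) ≠ 0 ∧
        ∃ m : ℕ, classInner (res D.hHG (χ : G → ℂ)) (ξ : H → ℂ) = (m : ℂ) ∧ Odd m) := by
  classical
  haveI := Fintype.ofFinite K
  obtain ⟨θ, hθ, hθS, hθG⟩ := D.exists_above hφ hG
  obtain ⟨d, T, P, hT, hP, hfix⟩ := D.exists_fixed_sign hG hθ hθS hθG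
  have hirr : IsIrrCharacter K fun k => (T k).trace := by
    rw [show (fun k => (T k).trace) = (θ : K → ℂ) from funext hT]; exact θ.2
  have hHK : H ≤ Subgroup.normalizer (L : Set Γ) := D.hHG.trans D.hLn
  -- parity for isotypic characters
  have hpar : ∀ (χ : G → ℂ) (a : ℕ), IsCharacter G χ → res D.hKG χ = (a : ℂ) • (θ : K → ℂ) →
      ∃ c : IrrCharacter H → ℤ,
        (∀ (ξ : IrrCharacter H) (b : ℕ), classInner (res D.hHG χ) (ξ : H → ℂ) = (b : ℂ) →
          c ξ ≡ b [ZMOD 2]) ∧ ((∑ ξ, c ξ ^ 2 : ℤ) : ℂ) = classInner χ χ := fun χ a hχ ha =>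
    D.exists_parity hirr hP hfix hχ fun k => (congrFun ha k).trans (by rw [hT]; rfl)
  have hiso : ∀ χ : IrrCharacter G, classInner (res D.hKG (χ : G → ℂ)) (θ : K → ℂ) ≠ 0 →
      ∃ a : ℕ, res D.hKG (χ : G → ℂ) = (a : ℂ) • (θ : K → ℂ) := by
    intro χ h
    obtain ⟨a, ha⟩ := exists_nat_classInner (isCharacter_res D.hKG (isCharacter_of_isIrr χ.2))
      (isCharacter_of_isIrr θ.2)
    have h1 := res_eq_smul D.hKG D.hKn θ.2 hθG χ.2 h
    rw [ha] at h1
    exact ⟨a, h1⟩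
  have hone : ∀ χ : IrrCharacter G, classInner (res D.hKG (χ : G → ℂ)) (θ : K → ℂ) ≠ 0 →
      ∃ ψ₀ : IrrCharacter H, ∀ (ψ : IrrCharacter H) (m : ℕ),
        classInner (res D.hHG (χ : G → ℂ)) (ψ : H → ℂ) = (m : ℂ) → (Odd m ↔ ψ = ψ₀) := by
    intro χ h
    obtain ⟨a, ha⟩ := hiso χ h
    obtain ⟨c, hc, hn⟩ := hpar χ a (isCharacter_of_isIrr χ.2) ha
    rw [classInner_irr_self χ.2] at hn
    have hn' : ∑ ξ, c ξ ^ 2 = 1 := by exact_mod_cast hn
    obtain ⟨ψ₀, -, h0⟩ := Finset.exists_ne_zero_of_sum_ne_zero (hn'.trans_ne one_ne_zero)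
    have hothers : ∀ ψ, ψ ≠ ψ₀ → c ψ = 0 := by
      intro ψ hne
      by_contra hc0
      have h2 : c ψ₀ ^ 2 + c ψ ^ 2 ≤ 1 := by
        rw [← hn', ← Finset.sum_pair (f := fun ξ => c ξ ^ 2) (Ne.symm hne)]
        exact Finset.sum_le_univ_sum_of_nonneg fun _ => sq_nonneg _
      have : 0 < c ψ₀ ^ 2 := lt_of_le_of_ne (sq_nonneg _) (Ne.symm h0)
      have : 0 < c ψ ^ 2 := by positivity
      omega
    have hψ₀ : c ψ₀ ^ 2 = 1 := by
      rw [← hn']; exact (Finset.sum_eq_single (f := fun ξ => c ξ ^ 2) ψ₀ (fun ξ _ hξ => by simp [hothers ξ hξ]) (by simp)).symm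
    refine ⟨ψ₀, fun ψ m hm => ?_⟩
    have h3 : c ψ % 2 = (m : ℤ) % 2 := hc ψ m hm
    rw [Nat.odd_iff]
    constructor
    · intro hm2
      by_contra hne
      rw [hothers ψ hne] at h3
      omega
    · rintro rfl
      rcases sq_eq_one_iff.mp hψ₀ with e | e <;> rw [e] at h3 <;> omega
  have hinj : ∀ χ χ' : IrrCharacter G, classInner (res D.hKG (χ : G → ℂ)) (θ : K → ℂ) ≠ 0 →
      classInner (res D.hKG (χ' : G → ℂ)) (θ : K → ℂ) ≠ 0 → ∀ (ψ : IrrCharacter H) (m m' : ℕ),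
      classInner (res D.hHG (χ : G → ℂ)) (ψ : H → ℂ) = (m : ℂ) → Odd m →
      classInner (res D.hHG (χ' : G → ℂ)) (ψ : H → ℂ) = (m' : ℂ) → Odd m' → χ = χ' := by
    intro χ χ' h h' ψ m m' hm hmo hm' hmo'
    by_contra hne
    obtain ⟨a, ha⟩ := hiso χ h
    obtain ⟨a', ha'⟩ := hiso χ' h'
    obtain ⟨ψ₁, h1⟩ := hone χ h
    obtain ⟨ψ₂, h2⟩ := hone χ' h'
    obtain rfl : ψ = ψ₁ := (h1 ψ m hm).mp hmo
    obtain rfl : ψ = ψ₂ := (h2 ψ m' hm').mp hmo'
    have hch := isCharacter_add (isCharacter_of_isIrr χ.2) (isCharacter_of_isIrr χ'.2)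
    obtain ⟨c, hc, hn⟩ := hpar _ (a + a') hch (by
      funext k
      have e1 := congrFun ha k
      have e2 := congrFun ha' k
      simp only [res, Pi.add_apply, Pi.smul_apply, smul_eq_mul] at e1 e2 ⊢
      rw [e1, e2]; push_cast; ring)
    have hn2 : ∑ ξ, c ξ ^ 2 = 2 := by
      rw [classInner_add_left, classInner_add_right, classInner_add_right, classInner_irr_self χ.2,
        classInner_irr_self χ'.2, classInner_irr_ne χ.2 χ'.2 fun e => hne (Subtype.ext e),
        classInner_irr_ne χ'.2 χ.2 fun e => hne (Subtype.ext e.symm)] at hn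
      norm_num at hn
      exact_mod_cast hn
    have heven : ∀ ξ, (4 : ℤ) ∣ c ξ ^ 2 := by
      intro ξ
      obtain ⟨b, hb⟩ := exists_nat_classInner (isCharacter_res D.hHG (isCharacter_of_isIrr χ.2))
        (isCharacter_of_isIrr ξ.2)
      obtain ⟨b', hb'⟩ := exists_nat_classInner (isCharacter_res D.hHG (isCharacter_of_isIrr χ'.2))
        (isCharacter_of_isIrr ξ.2)
      have h3 : c ξ % 2 = ((b + b' : ℕ) : ℤ) % 2 := hc ξ (b + b') (by
        rw [Nat.cast_add, ← hb, ← hb', ← classInner_add_left]; rfl)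
      have h4 : Even (b + b') := by
        rw [Nat.even_add, ← Nat.not_odd_iff_even, ← Nat.not_odd_iff_even, h1 ξ b hb, h2 ξ b' hb']
      obtain ⟨t, ht⟩ := h4
      have h5 : (2 : ℤ) ∣ c ξ := by omega
      simpa using pow_dvd_pow_of_dvd h5 2
    have h6 : (4 : ℤ) ∣ 2 := hn2 ▸ Finset.dvd_sum fun ξ _ => heven ξ
    omega
  -- invariant characters over `φ` lie over `θ`
  have hover : ∀ χ : IrrCharacter G, Inv G S (χ : G → ℂ) →
      classInner (res (D.hLK.trans D.hKG) (χ : G → ℂ)) (φ : L → ℂ) ≠ 0 →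
      classInner (res D.hKG (χ : G → ℂ)) (θ : K → ℂ) ≠ 0 := by
    intro χ hχ h
    haveI : (K.subgroupOf G).Normal :=
      (Subgroup.normal_subgroupOf_iff_le_normalizer D.hKG).mpr D.hKn
    haveI := D.solv
    obtain ⟨θ', hθ', hθ'S⟩ := Cfsg.Agent.S4447.result G S K
      (fun s hs g hg => (Subgroup.mem_normalizer_iff.mp (D.hSG hs) g).mp hg) D.hKG
      (fun s hs k hk => (Subgroup.mem_normalizer_iff.mp (D.hSK hs) k).mp hk)
      (D.cop.coprime_dvd_left (Subgroup.index_dvd_card _))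
      (Or.inr (Group.isSolvable_of_surjective (QuotientGroup.mk'_surjective _))) χ hχ
    have hθ'' : classInner (res D.hKG (χ : G → ℂ)) (θ' : K → ℂ) ≠ 0 := hθ'
    suffices h1 : classInner (res D.hLK (θ' : K → ℂ)) (φ : L → ℂ) ≠ 0 by
      exact D.above_unique hG hθS hθ'S hθ h1 ▸ hθ''
    haveI : (L.subgroupOf K).Normal :=
      (Subgroup.normal_subgroupOf_iff_le_normalizer D.hLK).mpr (D.hKG.trans D.hLn)
    obtain ⟨α, hα⟩ := exists_constituent (L.subgroupOf K) (isCharacter_of_isIrr θ'.2) (irr_degree_ne_zero θ'.2)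
    set eL := Subgroup.subgroupOfEquivOfLe D.hLK
    set α' : IrrCharacter L := ⟨_, isIrrCharacter_comp_mulEquiv eL.symm α.2⟩
    have hα' : classInner (res D.hLK (θ' : K → ℂ)) (α' : L → ℂ) ≠ 0 := by
      rw [← classInner_comp_mulEquiv eL, show (fun x => (α' : L → ℂ) (eL x)) = (α : L.subgroupOf K → ℂ)
        from funext fun x => congrArg (α : L.subgroupOf K → ℂ) (eL.symm_apply_apply x)]
      exact hα
    have h2 := over_trans D.hKG D.hLK (isCharacter_of_isIrr χ.2) (isCharacter_of_isIrr α'.2) hθ'' hα'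
    rw [res_eq_smul (D.hLK.trans D.hKG) D.hLn φ.2 hG χ.2 h, classInner_smul_left,
      classInner_irr φ.2 α'.2] at h2
    have : (φ : L → ℂ) = α' := by
      by_contra hne; exact h2 (by rw [if_neg hne, mul_zero])
    rw [this]
    exact hα'
  have hconj : ∀ (χ : G → ℂ) (s : Γ) (hs : s ∈ S) (ψ : H → ℂ), Inv G S χ →
      classInner (res D.hHG χ) (fun x => ψ (conjEquiv (D.hSH hs) x)) =
        classInner (res D.hHG χ) ψ := by
    intro χ s hs ψ hχ
    have h1 := classInner_res_conj D.hHG (χ := χ) ψ (D.hSG hs) (D.hSH hs)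
    rwa [show (fun g => χ (conjEquiv (D.hSG hs) g)) = χ from funext fun g => hχ s hs g _ rfl] at h1
  refine ⟨fun χ hχ h => ?_, fun χ χ' hχ hχ' h h' => hinj χ χ' (hover χ hχ h) (hover χ' hχ' h'), ?_⟩
  · obtain ⟨ψ₀, hψ₀⟩ := hone χ (hover χ hχ h)
    obtain ⟨m₀, hm₀⟩ := exists_nat_classInner (isCharacter_res D.hHG (isCharacter_of_isIrr χ.2))
      (isCharacter_of_isIrr ψ₀.2)
    have hmo : Odd m₀ := (hψ₀ ψ₀ m₀ hm₀).mpr rfl
    refine ⟨ψ₀, ?_, ?_, hψ₀⟩
    · refine (inv_iff_forall_conj D.hSH _).mpr fun s hs => ?_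
      exact congrArg Subtype.val ((hψ₀ ⟨_, isIrrCharacter_comp_mulEquiv (conjEquiv (D.hSH hs)) ψ₀.2⟩ m₀
        ((hconj _ s hs _ hχ).trans hm₀)).mp hmo)
    · haveI : (L.subgroupOf H).Normal :=
        (Subgroup.normal_subgroupOf_iff_le_normalizer D.hLH).mpr hHK
      obtain ⟨α, hα⟩ := exists_constituent (L.subgroupOf H) (isCharacter_of_isIrr ψ₀.2) (irr_degree_ne_zero ψ₀.2)
      set eL := Subgroup.subgroupOfEquivOfLe D.hLH
      set α' : IrrCharacter L := ⟨_, isIrrCharacter_comp_mulEquiv eL.symm α.2⟩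
      have hα' : classInner (res D.hLH (ψ₀ : H → ℂ)) (α' : L → ℂ) ≠ 0 := by
        rw [← classInner_comp_mulEquiv eL, show (fun x => (α' : L → ℂ) (eL x)) = (α : L.subgroupOf H → ℂ)
          from funext fun x => congrArg (α : L.subgroupOf H → ℂ) (eL.symm_apply_apply x)]
        exact hα
      have h2 := over_trans D.hHG D.hLH (isCharacter_of_isIrr χ.2) (isCharacter_of_isIrr α'.2)
        (by rw [hm₀, Nat.cast_ne_zero]; exact hmo.pos.ne') hα'
      change classInner (res (D.hLH.trans D.hHG) (χ : G → ℂ)) (α' : L → ℂ) ≠ 0 at h2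
      rw [res_eq_smul (D.hLK.trans D.hKG) D.hLn φ.2 hG χ.2 h, classInner_smul_left,
        classInner_irr φ.2 α'.2] at h2
      have : (φ : L → ℂ) = α' := by
        by_contra hne; exact h2 (by rw [if_neg hne, mul_zero])
      rw [this]
      exact hα'
  · intro ξ hξ hξφ
    haveI : (K.subgroupOf G).Normal :=
      (Subgroup.normal_subgroupOf_iff_le_normalizer D.hKG).mpr D.hKn
    set eH := Subgroup.subgroupOfEquivOfLe D.hHG
    set eK := Subgroup.subgroupOfEquivOfLe D.hKG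
    have hξ' : IsIrrCharacter (H.subgroupOf G) fun x => (ξ : H → ℂ) (eH x) :=
      isIrrCharacter_comp_mulEquiv eH ξ.2
    set I := indFun (H.subgroupOf G) (fun x => (ξ : H → ℂ) (eH x)) with hI
    have hIc : IsCharacter G I := isCharacter_indFun _ (isCharacter_of_isIrr hξ')
    obtain ⟨a, ha⟩ := exists_nat_classInner (isCharacter_res D.hLH (isCharacter_of_isIrr ξ.2))
      (isCharacter_of_isIrr φ.2)
    obtain ⟨e, he⟩ := exists_nat_classInner (isCharacter_res D.hLK (isCharacter_of_isIrr θ.2))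
      (isCharacter_of_isIrr φ.2)
    have hodd : Odd (a * e) := by
      have ha0 : a ≠ 0 := fun h0 => hξφ (by rw [ha, h0, Nat.cast_zero])
      have he0 : e ≠ 0 := fun h0 => hθ (by rw [he, h0, Nat.cast_zero])
      refine Odd.mul (D.odd.of_dvd_nat ?_) (D.odd.of_dvd_nat ?_)
      · exact (multiplicity_dvd D.hLH hHK ξ.2 φ.2 ha ha0).trans (Subgroup.card_dvd_of_le D.hHG)
      · exact (multiplicity_dvd D.hLK (D.hKG.trans D.hLn) θ.2 φ.2 he he0).trans
          (Subgroup.card_dvd_of_le D.hKG)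
    have hval : classInner (res D.hKG I) (θ : K → ℂ) = ((a * e : ℕ) : ℂ) := by
      have hsup : K.subgroupOf G ⊔ H.subgroupOf G = ⊤ := by
        rw [← Subgroup.subgroupOf_sup D.hKG D.hHG, Subgroup.subgroupOf_eq_top]
        calc G = K ⊔ fix G S := D.hgen.symm
          _ ≤ K ⊔ H := sup_le_sup_left (D.hH ▸ le_sup_right) K
      haveI := Fintype.ofFinite ((H.subgroupOf G).subgroupOf (K.subgroupOf G))
      rw [← classInner_comp_mulEquiv eK]
      show classInner (fun k : K.subgroupOf G => I k) _ = _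
      rw [hI, indFun_restrict_of_sup_eq_top _ _ hsup
          (isClassFunction_of_isCharacter (isCharacter_of_isIrr hξ')),
        frobenius_reciprocity _ _ (isClassFunction_of_isCharacter
          (isCharacter_of_isIrr (isIrrCharacter_comp_mulEquiv eK θ.2)))]
      have hmem : ∀ q : (H.subgroupOf G).subgroupOf (K.subgroupOf G), (((q : K.subgroupOf G) : G) : Γ) ∈ L :=
        fun q => D.hinf ▸ ⟨(q : K.subgroupOf G).2, q.2⟩
      let eQ : (H.subgroupOf G).subgroupOf (K.subgroupOf G) ≃* L :=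
        { toFun := fun q => ⟨_, hmem q⟩
          invFun := fun l => ⟨⟨⟨(l : Γ), D.hKG (D.hLK l.2)⟩, D.hLK l.2⟩, D.hLH l.2⟩
          left_inv := fun q => rfl
          right_inv := fun l => rfl
          map_mul' := fun p q => rfl }
      refine (classInner_comp_mulEquiv eQ (res D.hLH (ξ : H → ℂ)) (res D.hLK (θ : K → ℂ))).trans ?_
      rw [res_eq_smul D.hLK (D.hKG.trans D.hLn) φ.2 (D.hKG.trans hG) θ.2 hθ, classInner_smul_right,
        he, ha, map_natCast, Nat.cast_mul, mul_comm]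
    choose b hb using fun χ : IrrCharacter G => exists_nat_classInner
      (isCharacter_res D.hHG (isCharacter_of_isIrr χ.2)) (isCharacter_of_isIrr ξ.2)
    choose q hq using fun χ : IrrCharacter G => exists_nat_classInner
      (isCharacter_res D.hKG (isCharacter_of_isIrr χ.2)) (isCharacter_of_isIrr θ.2)
    have hsum : ∑ χ, b χ * q χ = a * e := by
      apply Nat.cast_injective (R := ℂ)
      rw [← hval, show res D.hKG I = ∑ χ : IrrCharacter G,
          classInner I (χ : G → ℂ) • res D.hKG (χ : G → ℂ) from funext fun k => by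
        have h1 := congrFun (classFunction_expansion (isClassFunction_of_isCharacter hIc))
          ⟨(k : Γ), D.hKG k.2⟩
        simpa [res, Finset.sum_apply] using h1,
        classInner_sum_left, Nat.cast_sum]
      refine Finset.sum_congr rfl fun χ _ => ?_
      rw [classInner_smul_left, hq, Nat.cast_mul, hI,
        frobenius_reciprocity _ _ (isClassFunction_irr χ), ← classInner_conj_symm]
      rw [show classInner (fun x : H.subgroupOf G => (χ : G → ℂ) x) (fun x => (ξ : H → ℂ) (eH x)) =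
        classInner (res D.hHG (χ : G → ℂ)) (ξ : H → ℂ) from
          classInner_comp_mulEquiv eH (res D.hHG (χ : G → ℂ)) ξ, hb, map_natCast]
    obtain ⟨χ, hχb, hχq⟩ : ∃ χ, Odd (b χ) ∧ Odd (q χ) := by
      by_contra hall
      push Not at hall
      apply Nat.not_even_iff_odd.mpr hodd
      rw [← hsum]
      refine Finset.even_sum _ fun χ _ => ?_
      rw [Nat.even_mul]
      exact (Nat.even_or_odd (b χ)).imp_right fun h => Nat.not_odd_iff_even.mp (hall χ h)
    have hχθ : classInner (res D.hKG (χ : G → ℂ)) (θ : K → ℂ) ≠ 0 := by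
      rw [hq, Nat.cast_ne_zero]; exact hχq.pos.ne'
    refine ⟨χ, (inv_iff_forall_conj D.hSG _).mpr fun s hs => ?_,
      over_trans D.hKG D.hLK (isCharacter_of_isIrr χ.2) (isCharacter_of_isIrr φ.2) hχθ hθ,
      b χ, hb χ, hχb⟩
    set χs : IrrCharacter G := ⟨_, isIrrCharacter_comp_mulEquiv (conjEquiv (D.hSG hs)) χ.2⟩
    have e1 : (fun x => (ξ : H → ℂ) (conjEquiv (D.hSH hs) x)) = ξ := funext fun x => hξ s hs x _ rfl
    have e2 : (fun x => (θ : K → ℂ) (conjEquiv (D.hSK hs) x)) = θ := funext fun x => hθS s hs x _ rfl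
    have h1 := classInner_res_conj D.hHG (χ := (χ : G → ℂ)) (ξ : H → ℂ) (D.hSG hs) (D.hSH hs)
    rw [e1, hb] at h1
    have h2 := classInner_res_conj D.hKG (χ := (χ : G → ℂ)) (θ : K → ℂ) (D.hSG hs) (D.hSK hs)
    rw [e2] at h2
    exact congrArg Subtype.val (hinj χs χ (h2.trans_ne hχθ) hχθ ξ (b χ) (b χ) h1 hχb (hb χ) hχb)

end Data

end CfsgLib.Char.OddSection
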