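import Cfsg.Agent.Lib.Char.OddSection.Lift
import Cfsg.Agent.Lib.Char.Clifford

/-!
# Inversion operators on a fully ramified abelian section of odd order

`T` affords an irreducible character of `K` of odd degree whose restriction to the normal subgroup
`L` is a multiple of an invariant character, and `K/L` is abelian. A sign operator commutes with
`T(L)` and inverts the action of `K/L` on the commutant; such operators exist and are conjugate
under `K`.
-/

set_option autoImplicit false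
set_option linter.unusedSectionVars false

namespace CfsgLib.Char.OddSection

open Cfsg
open scoped ComplexConjugate

variable {K : Type*} [Group K] [Finite K] {d : ℕ}

/-- The span of the matrices of a subgroup. -/
def relSpan (T : K →* Mat d) (L : Subgroup K) : Submodule ℂ (Mat d) :=
  Submodule.span ℂ (T '' (L : Set K))

/-- A sign operator: it centralises `T L`, squares to one, has positive trace and inverts `K/L`. -/
def IsSign (T : K →* Mat d) (L : Subgroup K) (P : Mat d) : Prop :=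
  (∀ l ∈ L, Commute P (T l)) ∧ P * P = 1 ∧ (∀ k, T k * P * T k * P ∈ relSpan T L) ∧ 0 < P.trace.re

theorem IsSign.map {T : K →* Mat d} {L : Subgroup K} {P : Mat d} (hP : IsSign T L P) (σ : K ≃* K)
    (hσ : ∀ k, σ k ∈ L ↔ k ∈ L) (U : (Mat d)ˣ)
    (hU : ∀ k, (U : Mat d) * T k * ((U⁻¹ : (Mat d)ˣ) : Mat d) = T (σ k)) :
    IsSign T L ((U : Mat d) * P * ((U⁻¹ : (Mat d)ˣ) : Mat d)) := by
  obtain ⟨h1, h2, h3, h4⟩ := hP
  let c := MulSemiringAction.toAlgHom ℂ (Mat d) (ConjAct.toConjAct U)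
  have hc : ∀ X, c X = (U : Mat d) * X * ((U⁻¹ : (Mat d)ˣ) : Mat d) := fun X =>
    ConjAct.units_smul_def _ _
  have hT : ∀ k, T k = c (T (σ.symm k)) := fun k => by rw [hc, hU, MulEquiv.apply_symm_apply]
  rw [← hc]
  refine ⟨fun l hl => ?_, by rw [← map_mul, h2, map_one], fun k => ?_,
    by rw [hc, Matrix.trace_units_conj]; exact h4⟩
  · rw [hT l]
    exact (h1 _ ((hσ _).mp (by rwa [MulEquiv.apply_symm_apply]))).map c
  · rw [hT k, ← map_mul, ← map_mul, ← map_mul]
    have h5 : c.toLinearMap (T (σ.symm k) * P * T (σ.symm k) * P) ∈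
        Submodule.span ℂ (c.toLinearMap '' (T '' (L : Set K))) := by
      rw [← Submodule.map_span]
      exact Submodule.mem_map_of_mem (h3 _)
    refine Submodule.span_mono ?_ h5
    rintro _ ⟨_, ⟨l, hl, rfl⟩, rfl⟩
    exact ⟨σ l, (hσ l).mpr hl, (hU l).symm.trans (hc _).symm⟩

/-- Trace of an idempotent matrix. -/
theorem exists_nat_trace_of_idem {ι : Type*} [Fintype ι] [DecidableEq ι] (E : Matrix ι ι ℂ)
    (h : E * E = E) : ∃ r : ℕ, E.trace = r := by
  have hid : IsIdempotentElem (Matrix.toLin' E) := by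
    rw [IsIdempotentElem, Module.End.mul_eq_comp, ← Matrix.toLin'_mul, h]
  obtain ⟨p, hp⟩ := LinearMap.isProj_iff_isIdempotentElem _ |>.mpr hid
  exact ⟨_, (Matrix.trace_toLin'_eq E).symm.trans hp.trace⟩

/-- A matrix commuting with an irreducible representation is scalar. -/
theorem exists_scalar_of_commute {G : Type*} [Group G] [Finite G] {T : G →* Mat d}
    (hT : IsIrrCharacter G fun g => (T g).trace) {X : Mat d} (h : ∀ g, Commute X (T g)) :
    ∃ c : ℂ, X = c • 1 := by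
  have hall : LinearMap.mulLeft ℂ X = LinearMap.mulRight ℂ X :=
    linearMap_ext hT fun g => (h g).eq
  obtain ⟨c, hc⟩ := Matrix.mem_range_scalar_of_commute_single (M := X) fun i j _ =>
    (LinearMap.congr_fun hall (Matrix.single i j 1)).symm
  exact ⟨c, hc.symm.trans (by rw [Matrix.scalar_apply, Matrix.smul_one_eq_diagonal])⟩

/-- A commuting family preserving a nonzero subspace has a common eigenvector in it. -/
theorem exists_common_eigenvector {ι V : Type*} [AddCommGroup V] [Module ℂ V]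
    [FiniteDimensional ℂ V] (f : ι → Module.End ℂ V) (W : Submodule ℂ V) (hW : W ≠ ⊥)
    (hinv : ∀ i, ∀ v ∈ W, f i v ∈ W) (hcomm : ∀ i j, ∀ v ∈ W, f i (f j v) = f j (f i v)) :
    ∃ v ∈ W, v ≠ 0 ∧ ∀ i, ∃ c : ℂ, f i v = c • v := by
  obtain ⟨p, ⟨hpW, hp0, hpi⟩, hmin⟩ :=
    (IsWellFounded.wf (r := ((· < ·) : Submodule ℂ V → Submodule ℂ V → Prop))).has_min
      {p : Submodule ℂ V | p ≤ W ∧ p ≠ ⊥ ∧ ∀ i, ∀ v ∈ p, f i v ∈ p} ⟨W, le_rfl, hW, hinv⟩
  obtain ⟨v, hv, hv0⟩ := Submodule.exists_mem_ne_zero_of_ne_bot hp0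
  refine ⟨v, hpW hv, hv0, fun i => ?_⟩
  have : Nontrivial p := Submodule.nontrivial_iff_ne_bot.mpr hp0
  obtain ⟨c, hc⟩ := Module.End.exists_eigenvalue ((f i).restrict (hpi i))
  obtain ⟨w, hw⟩ := hc.exists_hasEigenvector
  have he : f i (w : V) = c • (w : V) := congrArg Subtype.val hw.apply_eq_smul
  refine ⟨c, ?_⟩
  set q := p ⊓ Module.End.eigenspace (f i) c
  have hwq : (w : V) ∈ q := ⟨w.2, Module.End.mem_eigenspace_iff.mpr he⟩
  have hq : q = p := by
    refine (inf_le_left : q ≤ p).eq_of_not_lt fun hlt => hmin q ⟨inf_le_left.trans hpW, ?_, ?_⟩ hlt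
    · exact (Submodule.ne_bot_iff _).mpr ⟨_, hwq, fun h => hw.2 (Subtype.ext h)⟩
    · rintro j x ⟨hx, hx'⟩
      refine ⟨hpi j x hx, Module.End.mem_eigenspace_iff.mpr ?_⟩
      rw [hcomm i j x (hpW hx), Module.End.mem_eigenspace_iff.mp hx', map_smul]
  rw [← hq] at hv
  exact Module.End.mem_eigenspace_iff.mp hv.2

/-- The data: a factorisation of `T` on `L` through an irreducible representation. -/
structure Ctx (T : K →* Mat d) (L : Subgroup K) where
  /-- The degree below. -/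
  f : ℕ
  /-- The irreducible representation of `L`. -/
  W : L →* Mat f
  /-- The factorisation. -/
  Φ : Mat f →ₐ[ℂ] Mat d
  irrW : IsIrrCharacter L fun l => (W l).trace
  irr : IsIrrCharacter K fun k => (T k).trace
  inj : Function.Injective Φ
  res : ∀ l : L, T (l : K) = Φ (W l)
  inv : ∀ (k : K) (l l' : L), (l' : K) = k * l * k⁻¹ → (W l').trace = (W l).trace
  abelian : ∀ a b : K, a * b * a⁻¹ * b⁻¹ ∈ L
  normal : L.Normal
  oddK : Odd (Nat.card K)
  oddd : Odd d

variable {T : K →* Mat d} {L : Subgroup K} (D : Ctx T L)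

namespace Ctx

/-- The translates: units centralising `T L` which are, up to the algebra spanned by `T L`, `T k`. -/
def IsU (k : K) (u : Mat d) : Prop :=
  (∀ l ∈ L, Commute u (T l)) ∧ ∃ A : (Mat D.f)ˣ, u = D.Φ A * T k

theorem mem_relSpan_iff {X : Mat d} : X ∈ relSpan T L ↔ ∃ B, X = D.Φ B := by
  have h : relSpan T L = LinearMap.range D.Φ.toLinearMap := by
    rw [LinearMap.range_eq_map, ← span_range_eq_top D.irrW, Submodule.map_span, relSpan]
    congr 1
    ext X
    simp only [Set.mem_image, Set.mem_range, SetLike.mem_coe]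
    constructor
    · rintro ⟨l, hl, rfl⟩; exact ⟨_, ⟨⟨l, hl⟩, rfl⟩, (D.res _).symm⟩
    · rintro ⟨_, ⟨l, rfl⟩, rfl⟩; exact ⟨l, l.2, D.res l⟩
  rw [h]
  exact ⟨fun ⟨B, hB⟩ => ⟨B, hB.symm⟩, fun ⟨B, hB⟩ => ⟨B, hB.symm⟩⟩

theorem commute_Φ {X : Mat d} (h : ∀ l ∈ L, Commute X (T l)) (B : Mat D.f) :
    Commute X (D.Φ B) := by
  have := linearMap_ext D.irrW (f := (LinearMap.mulLeft ℂ X).comp D.Φ.toLinearMap)
    (f' := (LinearMap.mulRight ℂ X).comp D.Φ.toLinearMap) fun l => by
      simpa [D.res l] using (h (l : K) l.2).eq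
  exact LinearMap.congr_fun this B

theorem scalar_of_range {B : Mat D.f} (h : ∀ l ∈ L, Commute (D.Φ B) (T l)) :
    ∃ c : ℂ, D.Φ B = c • 1 := by
  obtain ⟨c, hc⟩ := exists_scalar_of_commute D.irrW (X := B) fun l => D.inj (by
    simpa [D.res l] using (h (l : K) l.2).eq)
  exact ⟨c, by rw [hc, map_smul, map_one]⟩

theorem scalar_of_commute {X : Mat d} (hL : ∀ l ∈ L, Commute X (T l))
    (hU : ∀ k, ∃ u, D.IsU k u ∧ Commute X u) : ∃ c : ℂ, X = c • 1 := by
  refine exists_scalar_of_commute D.irr fun k => ?_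
  obtain ⟨u, ⟨-, A, hA⟩, hXu⟩ := hU k
  have : T k = D.Φ ((A⁻¹ : (Mat D.f)ˣ) : Mat D.f) * u := by
    rw [hA, ← mul_assoc, ← map_mul, Units.inv_mul, map_one, one_mul]
  rw [this]
  exact (D.commute_Φ hL _).mul_right hXu

theorem exists_conjugator (k : K) : ∃ A : (Mat D.f)ˣ, ∀ B, T k * D.Φ B * T k⁻¹ =
    D.Φ ((A : Mat D.f) * B * ((A⁻¹ : (Mat D.f)ˣ) : Mat D.f)) := by
  haveI := D.normal
  obtain ⟨A, hA⟩ := exists_conj_of_trace_eq D.W
    (D.W.comp (MulAut.conjNormal k : MulAut L).toMonoidHom)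
    fun l => (D.inv k l _ (MulAut.conjNormal_apply k l)).symm
  refine ⟨A, fun B => ?_⟩
  have := linearMap_ext D.irrW
    (f := (LinearMap.mulLeft ℂ (T k)).comp ((LinearMap.mulRight ℂ (T k⁻¹)).comp D.Φ.toLinearMap))
    (f' := D.Φ.toLinearMap.comp ((LinearMap.mulLeft ℂ (A : Mat D.f)).comp
      (LinearMap.mulRight ℂ ((A⁻¹ : (Mat D.f)ˣ) : Mat D.f)))) fun l => by
      have h1 : (T (k * (l : K) * k⁻¹)) =
          D.Φ ((A : Mat D.f) * D.W l * ((A⁻¹ : (Mat D.f)ˣ) : Mat D.f)) := by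
        rw [← hA l]
        exact (congrArg T (MulAut.conjNormal_apply k l).symm).trans (D.res _)
      simpa [← mul_assoc, ← D.res l] using h1
  simpa [← mul_assoc] using LinearMap.congr_fun this B

theorem exists_isU (k : K) : ∃ u, D.IsU k u := by
  obtain ⟨A, hA⟩ := D.exists_conjugator k
  refine ⟨D.Φ ((A⁻¹ : (Mat D.f)ˣ) : Mat D.f) * T k, fun l hl => ?_, A⁻¹, rfl⟩
  have h := hA (D.W ⟨l, hl⟩)
  rw [← D.res ⟨l, hl⟩] at h
  show D.Φ _ * T k * T l = T l * (D.Φ _ * T k)
  calc _ = D.Φ ((A⁻¹ : (Mat D.f)ˣ) : Mat D.f) * (T k * T l * T k⁻¹) * T k := by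
        simp [mul_assoc, ← map_mul]
    _ = _ := by
        rw [h, ← map_mul, ← mul_assoc, ← mul_assoc, Units.inv_mul, one_mul, map_mul,
          ← D.res ⟨l, hl⟩, mul_assoc]

variable {D}

theorem IsU.eq_mul {k : K} {u : Mat d} (h : D.IsU k u) :
    ∃ A : (Mat D.f)ˣ, T k = D.Φ A * u ∧ Commute u (D.Φ A) := by
  obtain ⟨hL, A, rfl⟩ := h
  exact ⟨A⁻¹, by rw [← mul_assoc, ← map_mul, Units.inv_mul, map_one, one_mul], D.commute_Φ hL _⟩

theorem IsU.isUnit {k : K} {u : Mat d} (h : D.IsU k u) : IsUnit u := by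
  obtain ⟨-, A, rfl⟩ := h
  exact (A.isUnit.map D.Φ).mul ((Group.isUnit k).map T)

theorem IsU.mul {j k : K} {u v : Mat d} (hu : D.IsU j u) (hv : D.IsU k v) :
    D.IsU (j * k) (u * v) := by
  refine ⟨fun l hl => (hu.1 l hl).mul_left (hv.1 l hl), ?_⟩
  obtain ⟨A, rfl⟩ := hu.2
  obtain ⟨B, rfl⟩ := hv.2
  refine ⟨B * A, ?_⟩
  calc D.Φ A * T j * (D.Φ B * T k) = D.Φ A * T j * D.Φ B * T k := by rw [mul_assoc _ (D.Φ B)]
    _ = D.Φ B * (D.Φ A * T j) * T k := by rw [(D.commute_Φ hu.1 B).eq]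
    _ = _ := by rw [Units.val_mul, map_mul, map_mul, ← mul_assoc (D.Φ B), mul_assoc _ (T j) (T k)]

theorem IsU.of_mem {k l : K} (hl : l ∈ L) {u : Mat d} (h : D.IsU (l * k) u) : D.IsU k u := by
  obtain ⟨A, rfl⟩ := h.2
  have hu : IsUnit (D.W ⟨l, hl⟩) := (Group.isUnit _).map D.W
  refine ⟨h.1, A * hu.unit, ?_⟩
  rw [map_mul, Units.val_mul, map_mul, IsUnit.unit_spec, ← D.res ⟨l, hl⟩, mul_assoc]

theorem IsU.unique {k : K} {u v : Mat d} (hu : D.IsU k u) (hv : D.IsU k v) :
    ∃ c : ℂ, c ≠ 0 ∧ u = c • v := by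
  obtain ⟨A, hA⟩ := hu.2
  obtain ⟨B, hB⟩ := hv.2
  set C : (Mat D.f)ˣ := A * B⁻¹
  have huv : u = D.Φ C * v := by
    rw [hB, ← mul_assoc, ← map_mul, Units.val_mul, mul_assoc, Units.inv_mul, mul_one, hA]
  obtain ⟨w, hw⟩ := hv.isUnit
  obtain ⟨c, hc⟩ := D.scalar_of_range (B := C) fun l hl => by
    have h1 := (hu.1 l hl).eq
    rw [huv, mul_assoc, (hv.1 l hl).eq, ← mul_assoc, ← mul_assoc] at h1
    exact hv.isUnit.mul_right_cancel h1
  rw [hc, smul_mul_assoc, one_mul] at huv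
  refine ⟨c, fun h0 => ?_, huv⟩
  rcases Nat.eq_zero_or_pos d with hd | hd
  · exact (Nat.not_odd_zero (hd ▸ D.oddd)).elim
  · have : Nonempty (Fin d) := ⟨⟨0, hd⟩⟩
    rw [h0, zero_smul] at huv
    exact hu.isUnit.ne_zero huv

theorem IsU.commutator {j k : K} {u v : Mat d} (hu : D.IsU j u) (hv : D.IsU k v) :
    ∃ c : ℂ, c ≠ 0 ∧ u * v = c • (v * u) := by
  refine IsU.unique (IsU.of_mem (l := j * k * j⁻¹ * k⁻¹) (D.abelian j k) ?_) (hv.mul hu)
  rw [show j * k * j⁻¹ * k⁻¹ * (k * j) = j * k by group]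
  exact hu.mul hv

variable (D)

theorem mem_span_isU {X : Mat d} (hX : ∀ l ∈ L, Commute X (T l)) :
    X ∈ Submodule.span ℂ {u : Mat d | ∃ k, D.IsU k u} := by
  classical
  have : Fintype L := Fintype.ofFinite L
  set TL : L →* Mat d := T.comp L.subtype
  set av := Blocks.PrimeDefect.avg TL TL with hav
  have hfix : ∀ Y : Mat d, (∀ l ∈ L, Commute Y (T l)) → av Y = Y := by
    intro Y hY
    rw [hav, Blocks.PrimeDefect.avg_apply, Finset.sum_congr rfl fun l _ => show
      TL l * Y * TL l⁻¹ = Y by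
        show T (l : K) * Y * T ((l⁻¹ : L) : K) = Y
        rw [← (hY l l.2).eq, mul_assoc, ← map_mul, Subgroup.coe_inv, mul_inv_cancel, map_one, mul_one],
      Finset.sum_const, Finset.card_univ, ← Nat.cast_smul_eq_nsmul ℂ, smul_smul,
      inv_mul_cancel₀ (Nat.cast_ne_zero.mpr Fintype.card_ne_zero), one_smul]
  rw [← hfix X hX]
  have hXs : X ∈ Submodule.span ℂ (Set.range T) := by rw [span_range_eq_top D.irr]; trivial
  have h1 := Submodule.mem_map_of_mem (f := av) hXs
  rw [Submodule.map_span] at h1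
  refine Submodule.span_le.mpr ?_ h1
  rintro _ ⟨_, ⟨k, rfl⟩, rfl⟩
  obtain ⟨u, hu⟩ := D.exists_isU k
  obtain ⟨A, hA, -⟩ := hu.eq_mul
  have hf : D.f ≠ 0 := fun h0 => irr_degree_ne_zero D.irrW (by
    show (D.W 1).trace = 0
    rw [map_one, Matrix.trace_one, Fintype.card_fin, h0, Nat.cast_zero])
  have hW : ∑ l, (D.W l).trace * (D.W l⁻¹).trace = (Fintype.card L : ℂ) := by
    have h := classInner_irr_self D.irrW
    rw [classInner, Nat.card_eq_fintype_card,
      inv_mul_eq_iff_eq_mul₀ (Nat.cast_ne_zero.mpr Fintype.card_ne_zero), mul_one] at h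
    simpa only [trace_inv] using h
  have he : ∀ l : L, TL l * T k * TL l⁻¹ =
      D.Φ (D.W l * (A : Mat D.f) * D.W l⁻¹) * u := fun l => by
    show T (l : K) * T k * T ((l⁻¹ : L) : K) = _
    rw [hA, map_mul, map_mul, ← D.res l, ← D.res l⁻¹, mul_assoc (T (l : K) * D.Φ A),
      ← (hu.1 _ (l⁻¹).2).eq, ← mul_assoc, ← mul_assoc]
  have hs := Blocks.PrimeDefect.sum_conj_eq_scalar D.W hf hW (A : Mat D.f)
  rw [← eq_inv_smul_iff₀ (Nat.cast_ne_zero.mpr hf), smul_smul] at hs
  show av (T k) ∈ Submodule.span ℂ {u : Mat d | ∃ k, D.IsU k u}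
  rw [hav, Blocks.PrimeDefect.avg_apply, Finset.sum_congr rfl fun l _ => he l, ← Finset.sum_mul,
    ← map_sum, hs, map_smul, map_one, smul_mul_assoc, one_mul]
  exact Submodule.smul_mem _ _ (Submodule.smul_mem _ _ (Submodule.subset_span ⟨k, hu⟩))

theorem exists_trace_ne_zero {X : Mat d} (hX : ∀ l ∈ L, Commute X (T l)) (h0 : X ≠ 0) :
    ∃ k u, D.IsU k u ∧ (X * u).trace ≠ 0 := by
  classical
  by_contra! hall
  apply h0
  have hspan : ∀ Y ∈ Submodule.span ℂ {u : Mat d | ∃ k, D.IsU k u}, (X * Y).trace = 0 := by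
    intro Y hY
    induction hY using Submodule.span_induction with
    | mem Y hY => obtain ⟨k, hk⟩ := hY; exact hall k Y hk
    | zero => simp
    | add Y Z _ _ h h' => rw [mul_add, Matrix.trace_add, h, h', add_zero]
    | smul c Y _ h => rw [mul_smul_comm, Matrix.trace_smul, h, smul_zero]
  have : Fintype L := Fintype.ofFinite L
  set TL : L →* Mat d := T.comp L.subtype
  refine Matrix.ext fun i j => ?_
  have hY : ∀ l ∈ L, Commute (∑ m : L, TL m * Matrix.single j i 1 * TL m⁻¹) (T l) := by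
    intro l hl
    show _ * TL ⟨l, hl⟩ = TL ⟨l, hl⟩ * _
    rw [Finset.sum_mul, Finset.mul_sum]
    refine Fintype.sum_equiv (Equiv.mulLeft (⟨l, hl⟩ : L)⁻¹) _ _ fun m => ?_
    simp only [Equiv.coe_mulLeft, map_mul, mul_inv_rev, inv_inv, ← mul_assoc]
    rw [← map_mul TL ⟨l, hl⟩, mul_inv_cancel, map_one, one_mul]
  have h := hspan _ (D.mem_span_isU hY)
  rw [Finset.mul_sum, Matrix.trace_sum, Finset.sum_congr rfl fun m _ => show
    (X * (TL m * Matrix.single j i 1 * TL m⁻¹)).trace = X i j by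
      show (X * (T (m : K) * _ * T ((m⁻¹ : L) : K))).trace = _
      rw [← mul_assoc, ← mul_assoc, (hX m m.2).eq, mul_assoc (T (m : K)), Matrix.trace_mul_cycle,
        ← map_mul, Subgroup.coe_inv, inv_mul_cancel, map_one, one_mul]
      simp [Matrix.trace, Matrix.mul_apply, Matrix.single_apply, ite_and],
    Finset.sum_const, Finset.card_univ, nsmul_eq_mul, mul_eq_zero] at h
  exact h.resolve_left (Nat.cast_ne_zero.mpr Fintype.card_ne_zero)

variable {D}

theorem IsU.sign {k : K} {u : Mat d} (hu : D.IsU k u) {P : Mat d} (hP : IsSign T L P) :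
    ∃ c : ℂ, c ≠ 0 ∧ u * P * u = c • P := by
  obtain ⟨h1, h2, h3, -⟩ := hP
  obtain ⟨A, hA, hAu⟩ := hu.eq_mul
  obtain ⟨B, hB⟩ := D.mem_relSpan_iff.mp (h3 k)
  have hAP := D.commute_Φ h1 (A : Mat D.f)
  have e : T k * P * T k * P = D.Φ (A : Mat D.f) * D.Φ (A : Mat D.f) * (u * P * u * P) := by
    rw [hA]
    calc _ = D.Φ A * (u * (P * D.Φ A)) * u * P := by simp only [mul_assoc]
      _ = D.Φ A * (u * D.Φ A) * P * u * P := by rw [hAP.eq]; simp only [mul_assoc]
      _ = _ := by rw [hAu.eq]; simp only [mul_assoc]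
  have hC : u * P * u * P = D.Φ (((A * A)⁻¹ : (Mat D.f)ˣ) * B) := by
    rw [map_mul, ← hB, e, ← map_mul, ← mul_assoc (D.Φ _), ← map_mul, ← Units.val_mul,
      Units.inv_mul, map_one, one_mul]
  obtain ⟨c, hc⟩ := D.scalar_of_range (B := ((A * A)⁻¹ : (Mat D.f)ˣ) * B) fun l hl => by
    rw [← hC]
    exact (((hu.1 l hl).mul_left (h1 l hl)).mul_left (hu.1 l hl)).mul_left (h1 l hl)
  have he : u * P * u = c • P := by
    have := congrArg (· * P) (hC.trans hc)
    simpa [mul_assoc, h2] using this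
  refine ⟨c, fun h0 => ?_, he⟩
  rcases Nat.eq_zero_or_pos d with hd | hd
  · exact (Nat.not_odd_zero (hd ▸ D.oddd)).elim
  · have : Nonempty (Fin d) := ⟨⟨0, hd⟩⟩
    rw [h0, zero_smul] at he
    exact ((hu.isUnit.mul (.of_mul_eq_one P h2)).mul hu.isUnit).ne_zero he

theorem exists_sign (D : Ctx T L) : ∃ P, IsSign T L P := by
  classical
  have hd0 : 0 < d := D.oddd.pos
  have : Nonempty (Fin d) := ⟨⟨0, hd0⟩⟩
  choose u hu using D.exists_isU
  let W : Submodule ℂ (Mat d) :=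
    { carrier := {X | ∀ l ∈ L, Commute X (T l)}
      add_mem' := fun h h' l hl => (h l hl).add_left (h' l hl)
      zero_mem' := fun l _ => Commute.zero_left _
      smul_mem' := fun c X h l hl => (h l hl).smul_left c }
  obtain ⟨X, hXW, hX0, hX⟩ := exists_common_eigenvector
    (fun k => (LinearMap.mulLeft ℂ (u k)).comp (LinearMap.mulRight ℂ (u k))) W
    ((Submodule.ne_bot_iff _).mpr ⟨1, fun l _ => Commute.one_left _, one_ne_zero⟩)
    (fun k Y hY l hl => ((hu k).1 l hl).mul_left ((hY l hl).mul_left ((hu k).1 l hl)))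
    (fun j k Y _ => by
      obtain ⟨c, hc0, hc⟩ := (hu j).commutator (hu k)
      simp only [LinearMap.comp_apply, LinearMap.mulLeft_apply, LinearMap.mulRight_apply]
      calc u j * (u k * (Y * u k) * u j) = (u j * u k) * Y * (u k * u j) := by simp only [mul_assoc]
        _ = (u k * u j) * Y * (u j * u k) := by
          rw [hc]; simp only [smul_mul_assoc, mul_smul_comm]
        _ = _ := by simp only [mul_assoc])
  choose lam hlam using hX
  have hlam' : ∀ k, u k * X * u k = lam k • X := fun k => by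
    rw [mul_assoc]; exact hlam k
  -- the eigenvector is invertible
  have hker : ∀ v : Fin d → ℂ, X.mulVec v = 0 → v = 0 := by
    intro v hv
    by_contra hv0
    apply hX0
    have hall : ∀ M : Mat d, X.mulVec (M.mulVec v) = 0 := by
      intro M
      have hMs : M ∈ Submodule.span ℂ (Set.range T) := by rw [span_range_eq_top D.irr]; trivial
      induction hMs using Submodule.span_induction with
      | mem M hM =>
        obtain ⟨k, rfl⟩ := hM
        obtain ⟨A, hA, -⟩ := (hu k).eq_mul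
        have h1 : (u k).mulVec (X.mulVec ((u k).mulVec v)) = 0 := by
          rw [Matrix.mulVec_mulVec, Matrix.mulVec_mulVec, hlam' k, Matrix.smul_mulVec, hv,
            smul_zero]
        have h2 : X.mulVec ((u k).mulVec v) = 0 :=
          Matrix.mulVec_injective_of_isUnit (hu k).isUnit (h1.trans (Matrix.mulVec_zero _).symm)
        rw [hA, Matrix.mulVec_mulVec, ← mul_assoc, (D.commute_Φ hXW _).eq, mul_assoc,
          ← Matrix.mulVec_mulVec, ← Matrix.mulVec_mulVec, h2, Matrix.mulVec_zero]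
      | zero => simp
      | add M N _ _ h h' => rw [Matrix.add_mulVec, Matrix.mulVec_add, h, h', add_zero]
      | smul c M _ h => rw [Matrix.smul_mulVec, Matrix.mulVec_smul, h, smul_zero]
    obtain ⟨j, hj⟩ := Function.ne_iff.mp hv0
    refine Matrix.ext fun i a => ?_
    have h := congrFun (hall (Matrix.single a j 1)) i
    simp [Matrix.mulVec, dotProduct, Matrix.single_apply, ite_and] at h
    exact h.resolve_right hj
  have hXu : IsUnit X := Matrix.mulVec_injective_iff_isUnit.mp fun v w h =>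
    sub_eq_zero.mp (hker _ (by rw [Matrix.mulVec_sub, h, sub_self]))
  have hlam0 : ∀ k, lam k ≠ 0 := fun k h0 => by
    have := hlam' k
    rw [h0, zero_smul] at this
    exact (((hu k).isUnit.mul hXu).mul (hu k).isUnit).ne_zero this
  obtain ⟨c, hc⟩ := D.scalar_of_commute (X := X * X) (fun l hl => (hXW l hl).mul_left (hXW l hl))
    fun k => ⟨u k, hu k, by
      obtain ⟨v, hv⟩ := (hu k).isUnit
      have h1 : (v : Mat d) * X * v = lam k • X := by rw [hv]; exact hlam' k
      have h2 : (v : Mat d) * X = lam k • (X * ((v⁻¹ : (Mat d)ˣ) : Mat d)) := by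
        rw [← smul_mul_assoc, ← h1, Units.mul_inv_cancel_right]
      have h3 : X * (v : Mat d) = lam k • (((v⁻¹ : (Mat d)ˣ) : Mat d) * X) := by
        rw [← mul_smul_comm, ← h1, mul_assoc (v : Mat d), Units.inv_mul_cancel_left]
      rw [← hv]
      show X * X * (v : Mat d) = (v : Mat d) * (X * X)
      rw [← mul_assoc (v : Mat d), h2, mul_assoc X, h3, mul_smul_comm, smul_mul_assoc, mul_assoc]⟩
  have hc0 : c ≠ 0 := fun h0 => by rw [h0, zero_smul] at hc; exact (hXu.mul hXu).ne_zero hc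
  obtain ⟨r, hr⟩ : ∃ r : ℂ, r * r = c⁻¹ := IsAlgClosed.exists_eq_mul_self c⁻¹ |>.imp fun _ h => h.symm
  set P := r • X with hP
  have hP2 : P * P = 1 := by
    rw [hP, smul_mul_smul_comm, hr, hc, smul_smul, inv_mul_cancel₀ hc0, one_smul]
  have hsign : ∀ ε : ℂ, ε * ε = 1 → 0 < ((ε • P).trace).re → IsSign T L (ε • P) := by
    intro ε hε hpos
    refine ⟨fun l hl => ((hXW l hl).smul_left r).smul_left ε, by rw [smul_mul_smul_comm, hε, hP2,
      one_smul], fun k => D.mem_relSpan_iff.mpr ?_, hpos⟩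
    obtain ⟨A, hA, hAu⟩ := (hu k).eq_mul
    have hPW : ∀ l ∈ L, Commute P (T l) := fun l hl => (hXW l hl).smul_left r
    refine ⟨lam k • ((A : Mat D.f) * A), ?_⟩
    rw [map_smul, map_mul, hA]
    simp only [mul_smul_comm, smul_mul_assoc, smul_smul, hε, one_smul]
    calc D.Φ A * u k * P * (D.Φ A * u k) * P = D.Φ A * (u k * (P * D.Φ A)) * u k * P := by
          simp only [mul_assoc]
      _ = D.Φ A * (u k * D.Φ A) * P * u k * P := by
          rw [(D.commute_Φ hPW _).eq]; simp only [mul_assoc]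
      _ = D.Φ A * D.Φ A * ((u k * P * u k) * P) := by rw [hAu.eq]; simp only [mul_assoc]
      _ = _ := by
          rw [show u k * P * u k = lam k • P by
              rw [hP, mul_smul_comm, smul_mul_assoc, hlam' k, smul_comm],
            smul_mul_assoc, hP2, mul_smul_comm, mul_one]
  obtain ⟨m, hm⟩ := exists_nat_trace_of_idem ((2 : ℂ)⁻¹ • (1 + P)) (by
    rw [smul_mul_smul_comm, add_mul, mul_add, mul_add, one_mul, one_mul, mul_one, hP2]; module)
  rw [Matrix.trace_smul, Matrix.trace_add, Matrix.trace_one, Fintype.card_fin, smul_eq_mul] at hm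
  have hre : P.trace.re = 2 * (m : ℝ) - d := by
    have h : P.trace = 2 * (m : ℂ) - d := by linear_combination 2 * hm
    rw [h]; simp
  rcases lt_trichotomy P.trace.re 0 with h | h | h
  · exact ⟨_, hsign (-1) (by norm_num) (by simpa using h)⟩
  · rw [hre, sub_eq_zero] at h
    obtain ⟨a, ha⟩ := D.oddd
    have h' : 2 * m = d := by exact_mod_cast h
    omega
  · exact ⟨_, hsign 1 (one_mul 1) (by simpa using h)⟩

/-- Sign operators are conjugate under `K`. -/
theorem sign_conj (D : Ctx T L) {P P' : Mat d} (hP : IsSign T L P) (hP' : IsSign T L P') :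
    ∃ z : K, P' = T z * P * T z⁻¹ := by
  have hd0 : 0 < d := D.oddd.pos
  have : Nonempty (Fin d) := ⟨⟨0, hd0⟩⟩
  obtain ⟨hc, hsq, -, htr⟩ := id hP
  obtain ⟨hc', hsq', -, htr'⟩ := id hP'
  set Y := P' * P with hY
  have hYu : IsUnit Y := (IsUnit.of_mul_eq_one P' hsq').mul (.of_mul_eq_one P hsq)
  have hYc : ∀ l ∈ L, Commute Y (T l) := fun l hl => (hc' l hl).mul_left (hc l hl)
  obtain ⟨w, uw, huw, htrw⟩ := D.exists_trace_ne_zero hYc hYu.ne_zero
  obtain ⟨c, hZ⟩ := D.scalar_of_commute (X := Y * uw) (fun l hl => (hYc l hl).mul_left (huw.1 l hl))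
    fun k => by
      obtain ⟨u, hu⟩ := D.exists_isU k
      refine ⟨u, hu, ?_⟩
      obtain ⟨a, ha0, ha⟩ := hu.sign hP
      obtain ⟨a', -, ha'⟩ := hu.sign hP'
      obtain ⟨b, -, hb⟩ := hu.commutator huw
      obtain ⟨v, rfl⟩ := hu.isUnit
      have h1 : (v : Mat d) * P' = a' • (P' * ((v⁻¹ : (Mat d)ˣ) : Mat d)) := by
        rw [← smul_mul_assoc, ← ha', Units.mul_inv_cancel_right]
      have h2 : ((v⁻¹ : (Mat d)ˣ) : Mat d) * P = a⁻¹ • (P * v) := by
        rw [eq_inv_smul_iff₀ ha0, ← mul_smul_comm, ← ha, mul_assoc (v : Mat d),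
          Units.inv_mul_cancel_left]
      have he : (v : Mat d) * (Y * uw) = (a' * a⁻¹ * b) • (Y * uw * v) := by
        rw [hY]
        calc (v : Mat d) * (P' * P * uw) = (v : Mat d) * P' * P * uw := by simp only [mul_assoc]
          _ = a' • (P' * (((v⁻¹ : (Mat d)ˣ) : Mat d) * P) * uw) := by
            rw [h1]; simp only [smul_mul_assoc, mul_assoc]
          _ = (a' * a⁻¹) • (P' * P * ((v : Mat d) * uw)) := by
            rw [h2]; simp only [mul_smul_comm, smul_mul_assoc, smul_smul, mul_assoc]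
          _ = _ := by rw [hb, mul_smul_comm, smul_smul]; simp only [mul_assoc]
      set μ := a' * a⁻¹ * b
      have htv := congrArg (fun M => (M * ((v⁻¹ : (Mat d)ˣ) : Mat d)).trace) he
      simp only [smul_mul_assoc, Units.mul_inv_cancel_right, Matrix.trace_units_conj,
        Matrix.trace_smul, smul_eq_mul] at htv
      have hμ : μ = 1 := mul_right_cancel₀ htrw (htv.symm.trans (one_mul _).symm)
      rw [hμ, one_smul] at he
      exact he.symm
  -- a square root of `w⁻¹`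
  obtain ⟨a, ha⟩ := D.oddK
  set z := (w⁻¹) ^ (a + 1) with hz
  have hzz : w * (z * z) = 1 := by
    rw [hz, ← pow_add, show a + 1 + (a + 1) = Nat.card K + 1 by omega, pow_succ,
      pow_card_eq_one', one_mul, mul_inv_cancel]
  obtain ⟨v, hv⟩ := D.exists_isU z
  obtain ⟨s, hs0, hs⟩ := hv.sign hP
  have hone : D.IsU 1 (1 : Mat d) := ⟨fun l _ => Commute.one_left _, 1, by simp⟩
  obtain ⟨e, he0, he⟩ := (show D.IsU 1 (uw * (v * v)) by
    have := huw.mul (hv.mul hv); rwa [hzz] at this).unique hone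
  have hY2 : e • Y = c • (v * v) := by
    have := congrArg (fun M => M * (v * v)) hZ
    simp only [smul_mul_assoc, one_mul, mul_assoc, he, mul_smul_comm, mul_one] at this
    exact this
  obtain ⟨A, hA, hAv⟩ := hv.eq_mul
  obtain ⟨g, rfl⟩ := hv.isUnit
  have h1 : (g : Mat d) * P = s • (P * ((g⁻¹ : (Mat d)ˣ) : Mat d)) := by
    rw [← smul_mul_assoc, ← hs, Units.mul_inv_cancel_right]
  have hconj : T z * P * T z⁻¹ = (g : Mat d) * P * ((g⁻¹ : (Mat d)ˣ) : Mat d) := by
    have hgP : Commute ((g : Mat d) * P) (D.Φ (A : Mat D.f)) :=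
      D.commute_Φ (fun l hl => (hv.1 l hl).mul_left (hc l hl)) _
    have hinv : (g : Mat d) * P * ((g⁻¹ : (Mat d)ˣ) : Mat d) * T z = T z * P := by
      rw [hA, hAv.eq.symm]
      rw [mul_assoc ((g : Mat d) * P), Units.inv_mul_cancel_left, hgP.eq, ← mul_assoc, hAv.eq]
    rw [← hinv, mul_assoc _ (T z), ← map_mul, mul_inv_cancel, map_one, mul_one]
  have hP'eq : P' = (e⁻¹ * c * s) • ((g : Mat d) * P * ((g⁻¹ : (Mat d)ˣ) : Mat d)) := by
    calc P' = Y * P := by rw [hY, mul_assoc, hsq, mul_one]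
      _ = (e⁻¹ * c) • ((g : Mat d) * g * P) := by
        rw [← inv_smul_smul₀ he0 Y, hY2]; simp only [smul_mul_assoc, smul_smul]
      _ = _ := by
        conv_lhs => rw [mul_assoc (g : Mat d), h1, mul_smul_comm, smul_smul]
        rw [mul_assoc (g : Mat d)]
  set t := e⁻¹ * c * s
  set P₁ := (g : Mat d) * P * ((g⁻¹ : (Mat d)ˣ) : Mat d) with hP₁
  have hP₁2 : P₁ * P₁ = 1 := by
    rw [hP₁]
    simp only [mul_assoc, Units.inv_mul_cancel_left]
    rw [← mul_assoc P P, hsq, one_mul, Units.mul_inv]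
  have ht : t * t = 1 := by
    have h := hsq'
    rw [hP'eq, smul_mul_smul_comm, hP₁2] at h
    have h2 := congrArg (fun M : Mat d => M ⟨0, hd0⟩ ⟨0, hd0⟩) h
    simpa using h2
  rcases mul_self_eq_one_iff.mp ht with h | h
  · exact ⟨z, by rw [hconj, hP'eq, h, one_smul]⟩
  · exfalso
    rw [hP'eq, h, Matrix.trace_smul, hP₁, Matrix.trace_units_conj] at htr'
    simp at htr'
    linarith

end Ctx

end CfsgLib.Char.OddSection
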