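import Cfsg.Agent.Lib.Char.Table
import Cfsg.Agent.Lib.Blocks.PrimeDefect.Schur
import Mathlib.Data.Matrix.Block
import Mathlib.LinearAlgebra.Matrix.Reindex

/-!
# Matrix representations: conjugacy from traces, Burnside's theorem, isotypic representations

If the character of `R` is a multiple of the irreducible character of `T`, then `R` is the composition
of `T` with an algebra homomorphism.
-/

set_option autoImplicit false

namespace CfsgLib.Char.OddSection

open Cfsg
open scoped ComplexConjugate

/-- Square complex matrices. -/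
abbrev Mat (n : ℕ) := Matrix (Fin n) (Fin n) ℂ

variable {G : Type*} [Group G] {n d : ℕ}

/-- The representation of a matrix representation. -/
noncomputable def toRep (R : G →* Mat n) : Representation ℂ G (Fin n → ℂ) :=
  (Matrix.toLinAlgEquiv' (R := ℂ) (n := Fin n)).toMonoidHom.comp R

theorem toRep_character (R : G →* Mat n) (g : G) : (toRep R).character g = (R g).trace :=
  Matrix.trace_toLin'_eq _

theorem isCharacter_trace (R : G →* Mat n) : IsCharacter G (fun g => (R g).trace) :=
  ⟨n, toRep R, funext (toRep_character R)⟩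

theorem exists_matrixRep {χ : G → ℂ} (h : IsCharacter G χ) :
    ∃ (n : ℕ) (R : G →* Mat n), ∀ g, (R g).trace = χ g := by
  obtain ⟨n, ρ, rfl⟩ := h
  exact ⟨n, (LinearMap.toMatrixAlgEquiv' (R := ℂ) (n := Fin n)).toMonoidHom.comp ρ, fun g =>
    (LinearMap.trace_eq_matrix_trace ℂ (Pi.basisFun ℂ (Fin n)) (ρ g)).symm⟩

theorem trace_inv [Finite G] (R : G →* Mat n) (g : G) :
    (R g⁻¹).trace = conj (R g).trace := by
  rw [← toRep_character, ← toRep_character]
  exact CfsgLib.Char.char_value_inv (toRep R) g

/-- Equal traces give conjugate matrix representations. -/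
theorem exists_conj_of_trace_eq [Finite G] (R R' : G →* Mat n)
    (h : ∀ g, (R g).trace = (R' g).trace) :
    ∃ U : (Mat n)ˣ, ∀ g, R' g = (U : Mat n) * R g * ((U⁻¹ : (Mat n)ˣ) : Mat n) := by
  obtain ⟨e⟩ := equiv_of_character_eq (toRep R) (toRep R')
    (funext fun g => by rw [toRep_character, toRep_character, h])
  set φ := LinearMap.toMatrixAlgEquiv' (R := ℂ) (n := Fin n)
  set E := LinearMap.GeneralLinearGroup.ofLinearEquiv e.toLinearEquiv with hE
  refine ⟨Units.map φ.toMonoidHom E, fun g => ?_⟩
  rw [Units.eq_mul_inv_iff_mul_eq]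
  apply φ.symm.injective
  rw [map_mul, map_mul]
  show toRep R' g * φ.symm (φ (E : Module.End ℂ (Fin n → ℂ))) =
    φ.symm (φ (E : Module.End ℂ (Fin n → ℂ))) * toRep R g
  rw [AlgEquiv.symm_apply_apply]
  exact (e.toIntertwiningMap.isIntertwining' g).symm

theorem span_range_eq_top [Finite G] {T : G →* Mat d}
    (hT : IsIrrCharacter G fun g => (T g).trace) :
    Submodule.span ℂ (Set.range T) = ⊤ := by
  classical
  have : Fintype G := Fintype.ofFinite G
  have hG : (Fintype.card G : ℂ) ≠ 0 := Nat.cast_ne_zero.mpr Fintype.card_ne_zero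
  have hd : d ≠ 0 := by
    rintro rfl
    exact irr_degree_ne_zero hT (by simp [Matrix.trace])
  have hnorm : ∑ g, (T g).trace * (T g⁻¹).trace = (Fintype.card G : ℂ) := by
    have h := classInner_irr_self hT
    rw [classInner, Nat.card_eq_fintype_card, inv_mul_eq_iff_eq_mul₀ hG, mul_one] at h
    simpa only [trace_inv] using h
  have key : ∀ i j k l : Fin d, (d : ℂ) * ∑ g, T g i j * T g⁻¹ k l =
      if i = l ∧ j = k then (Fintype.card G : ℂ) else 0 := by
    intro i j k l
    have h := congrFun (congrFun (Blocks.PrimeDefect.sum_conj_eq_scalar T hd hnorm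
      (Matrix.single j k 1)) i) l
    have he : ∀ g : G, (T g * Matrix.single j k (1 : ℂ) * T g⁻¹) i l = T g i j * T g⁻¹ k l :=
      fun g => by
      rw [Matrix.mul_apply, Finset.sum_eq_single k]
      · simp
      · intro b _ hb; simp [hb]
      · simp
    rw [Matrix.smul_apply, Matrix.sum_apply, Finset.sum_congr rfl fun g _ => he g, smul_eq_mul,
      Matrix.smul_apply, Matrix.one_apply, smul_eq_mul] at h
    rw [h]
    by_cases hil : i = l <;> by_cases hjk : j = k
    · subst hjk; simp [hil]
    · simp [hil, hjk, Matrix.trace_single_eq_of_ne]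
    · simp [hil]
    · simp [hil]
  rw [eq_top_iff]
  intro X _
  have hX : ((Fintype.card G : ℂ)) • X = (d : ℂ) • ∑ g, (X * T g⁻¹).trace • T g := by
    ext i j
    simp only [Matrix.smul_apply, Matrix.sum_apply, Matrix.trace, Matrix.diag, Matrix.mul_apply,
      smul_eq_mul, Finset.sum_mul, Finset.mul_sum]
    rw [Finset.sum_comm]
    have h : ∀ a b : Fin d, ∑ g, (d : ℂ) * (X a b * T g⁻¹ b a * T g i j) =
        X a b * if i = a ∧ j = b then (Fintype.card G : ℂ) else 0 := by
      intro a b
      rw [← key i j b a, Finset.mul_sum, Finset.mul_sum]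
      exact Finset.sum_congr rfl fun g _ => by ring
    rw [Finset.sum_congr rfl fun a _ => by rw [Finset.sum_comm, Finset.sum_congr rfl fun b _ => h a b]]
    simp [ite_and, mul_comm]
  have hmem : ((Fintype.card G : ℂ)) • X ∈ Submodule.span ℂ (Set.range T) := by
    rw [hX]
    exact Submodule.smul_mem _ _ (Submodule.sum_mem _ fun g _ =>
      Submodule.smul_mem _ _ (Submodule.subset_span ⟨g, rfl⟩))
  exact (Submodule.smul_mem_iff _ hG).mp hmem

/-- Linear maps agree when they agree on the image of an irreducible representation. -/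
theorem linearMap_ext [Finite G] {T : G →* Mat d} (hT : IsIrrCharacter G fun g => (T g).trace)
    {M : Type*} [AddCommGroup M] [Module ℂ M] {f f' : Mat d →ₗ[ℂ] M}
    (h : ∀ g, f (T g) = f' (T g)) : f = f' :=
  LinearMap.ext_on_range (span_range_eq_top hT) h

/-- The block diagonal embedding. -/
noncomputable def diagHom (m d : ℕ) : Mat d →ₐ[ℂ] Mat (d * m) :=
  (Matrix.reindexAlgEquiv ℂ ℂ finProdFinEquiv).toAlgHom.comp
    ({ (Matrix.blockDiagonalRingHom (Fin d) (Fin m) ℂ).comp (RingHom.pi fun _ => RingHom.id _) with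
      commutes' := fun r => by
        show Matrix.blockDiagonal (fun _ : Fin m => algebraMap ℂ (Mat d) r) = _
        simp only [Matrix.algebraMap_eq_diagonal]
        rw [Matrix.blockDiagonal_diagonal]
        rfl } : Mat d →ₐ[ℂ] Matrix (Fin d × Fin m) (Fin d × Fin m) ℂ)

theorem trace_diagHom (m : ℕ) (X : Mat d) : (diagHom m d X).trace = (m : ℂ) * X.trace := by
  show (Matrix.reindex finProdFinEquiv finProdFinEquiv
    (Matrix.blockDiagonal fun _ : Fin m => X)).trace = _
  rw [Matrix.trace, ← Equiv.sum_comp finProdFinEquiv, Fintype.sum_prod_type, Finset.sum_comm]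
  simp [Matrix.trace, Matrix.blockDiagonal_apply_eq]

theorem diagHom_injective {m : ℕ} (hm : m ≠ 0) : Function.Injective (diagHom m d) := by
  intro X Y h
  have h1 := Matrix.blockDiagonal_injective ((Matrix.reindex finProdFinEquiv finProdFinEquiv).injective h)
  exact congrFun h1 ⟨0, Nat.pos_of_ne_zero hm⟩

/-- An isotypic representation factors through the irreducible one. -/
theorem exists_lift [Finite G] (T : G →* Mat d)
    (R : G →* Mat n) (m : ℕ) (h : ∀ g, (R g).trace = (m : ℂ) * (T g).trace) :
    ∃ Φ : Mat d →ₐ[ℂ] Mat n, (∀ g, R g = Φ (T g)) ∧ (m ≠ 0 → Function.Injective Φ) := by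
  obtain rfl : n = d * m := by
    have h1 := h 1
    rw [map_one, map_one, Matrix.trace_one, Matrix.trace_one, Fintype.card_fin, Fintype.card_fin] at h1
    rw [mul_comm]
    exact_mod_cast h1
  obtain ⟨U, hU⟩ := exists_conj_of_trace_eq ((diagHom m d).toMonoidHom.comp T) R fun g => by
    rw [h]
    exact trace_diagHom m (T g)
  refine ⟨(MulSemiringAction.toAlgHom ℂ (Mat (d * m)) (ConjAct.toConjAct U)).comp (diagHom m d),
    fun g => ?_, fun hm => ?_⟩
  · exact (hU g).trans (ConjAct.units_smul_def (ConjAct.toConjAct U) _).symm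
  · exact (MulAction.injective (ConjAct.toConjAct U)).comp (diagHom_injective hm)

end CfsgLib.Char.OddSection
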