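import Cfsg.Agent.Lib.Char.OddSection.Inversion
import Mathlib.LinearAlgebra.Matrix.Kronecker
import Mathlib.Algebra.Order.Ring.Int
import Mathlib.Data.Int.GCD

/-!
# Parity of the multiplicities below an inverted abelian section

A sign operator fixed by the supplement `H` gives a class function on `H` which is congruent to the
restriction of `χ` modulo two coefficientwise and has the norm of `χ`.
-/

set_option autoImplicit false
set_option linter.unusedSectionVars false

namespace CfsgLib.Char.OddSection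

open Cfsg
open scoped ComplexConjugate Kronecker

/-- Coefficientwise parity for the trace against a commuting operator of square one. -/
theorem exists_coeff {H : Type*} [Group H] [Fintype H] {n : ℕ} (R : H →* Mat n) (J : Mat n)
    (hJ : J * J = 1) (hcomm : ∀ h, Commute J (R h)) (ξ : IrrCharacter H) :
    ∃ (p q : ℕ), classInner (fun h => (R h).trace) (ξ : H → ℂ) = (p : ℂ) + q ∧
      classInner (fun h => (J * R h).trace) (ξ : H → ℂ) = (p : ℂ) - q := by
  classical
  obtain ⟨f, W, hW⟩ := exists_matrixRep (isCharacter_of_isIrr ξ.2)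
  set W' : H →* Mat f :=
    { toFun := fun h => (W h⁻¹).transpose
      map_one' := by simp
      map_mul' := fun a b => by simp [mul_inv_rev, Matrix.transpose_mul] } with hW'
  have hW't : ∀ h, (W' h).trace = conj ((ξ : H → ℂ) h) := fun h => by
    rw [hW']
    show (W h⁻¹).transpose.trace = _
    rw [Matrix.trace_transpose, trace_inv, hW]
  set c : ℂ := (Fintype.card H : ℂ)⁻¹ with hc
  set S := c • ∑ h, R h ⊗ₖ W' h with hS
  set B := J ⊗ₖ (1 : Mat f) with hB
  have hBB : B * B = 1 := by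
    rw [hB, ← Matrix.mul_kronecker_mul, hJ, mul_one, Matrix.one_kronecker_one]
  have hBS : B * S = S * B := by
    rw [hS, hB, mul_smul_comm, smul_mul_assoc, Finset.mul_sum, Finset.sum_mul]
    congr 1
    refine Finset.sum_congr rfl fun h _ => ?_
    rw [← Matrix.mul_kronecker_mul, ← Matrix.mul_kronecker_mul, (hcomm h).eq, one_mul, mul_one]
  have hSS : S * S = S := by
    have hmul : ∀ h, (R h ⊗ₖ W' h) * S = S := fun h => by
      rw [hS, mul_smul_comm, Finset.mul_sum]
      congr 1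
      exact Fintype.sum_equiv (Equiv.mulLeft h) _ _ fun x => by simp [← Matrix.mul_kronecker_mul]
    nth_rewrite 1 [hS]
    rw [smul_mul_assoc, Finset.sum_mul, Finset.sum_congr rfl fun h _ => hmul h, Finset.sum_const,
      Finset.card_univ, ← Nat.cast_smul_eq_nsmul ℂ, smul_smul, hc,
      inv_mul_cancel₀ (Nat.cast_ne_zero.mpr Fintype.card_ne_zero), one_smul]
  have hidem : ∀ ε : ℂ, ε * ε = 1 → ∃ r : ℕ, (2 : ℂ)⁻¹ * (S.trace + ε * (B * S).trace) = r := by
    intro ε hε
    obtain ⟨r, hr⟩ := exists_nat_trace_of_idem ((2 : ℂ)⁻¹ • (S + ε • (B * S))) (by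
      have e1 : S * (B * S) = B * S := by rw [← mul_assoc, ← hBS, mul_assoc, hSS]
      have e2 : B * S * S = B * S := by rw [mul_assoc, hSS]
      have e3 : B * S * (B * S) = S := by rw [mul_assoc, e1, ← mul_assoc, hBB, one_mul]
      rw [smul_mul_smul_comm, add_mul, mul_add, mul_add, hSS]
      simp only [mul_smul_comm, smul_mul_assoc, e1, e2, e3, smul_smul, hε, one_smul]
      module)
    exact ⟨r, by rw [← hr]; simp only [Matrix.trace_smul, Matrix.trace_add, smul_eq_mul]⟩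
  obtain ⟨p, hp⟩ := hidem 1 (one_mul _)
  obtain ⟨q, hq⟩ := hidem (-1) (by norm_num)
  have hS1 : S.trace = classInner (fun h => (R h).trace) (ξ : H → ℂ) := by
    rw [hS, classInner, Nat.card_eq_fintype_card, Matrix.trace_smul, Matrix.trace_sum, smul_eq_mul]
    simp only [Matrix.trace_kronecker, hW't, hc]
  have hS2 : (B * S).trace = classInner (fun h => (J * R h).trace) (ξ : H → ℂ) := by
    rw [hS, hB, mul_smul_comm, Finset.mul_sum, classInner, Nat.card_eq_fintype_card,
      Matrix.trace_smul, Matrix.trace_sum, smul_eq_mul]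
    simp only [← Matrix.mul_kronecker_mul, Matrix.trace_kronecker, one_mul, hW't, hc]
  rw [← hS1, ← hS2]
  exact ⟨p, q, by linear_combination hp + hq, by linear_combination hp - hq⟩

variable {G : Type*} [Group G] [Fintype G]

/-- Summation over a product of two subgroups. -/
theorem sum_prod_eq {K H L : Subgroup G} [Fintype K] [Fintype H] [K.Normal] (hKH : K ⊔ H = ⊤)
    (hinf : K ⊓ H = L) (f : G → ℂ) :
    ∑ h : H, ∑ k : K, f ((h : G) * k) = (Nat.card L : ℂ) * ∑ g, f g := by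
  classical
  have hfib : ∀ x : G,
      (Finset.univ.filter fun z : H × K => (z.1 : G) * (z.2 : G) = x).card = Nat.card L := by
    intro x
    obtain ⟨h₀, hh₀, k₀, hk₀, rfl⟩ := Subgroup.mem_sup_of_normal_right.mp
      (sup_comm K H ▸ hKH ▸ Subgroup.mem_top x : x ∈ H ⊔ K)
    rw [← Fintype.card_subtype, ← Nat.card_eq_fintype_card]
    refine Nat.card_congr
      { toFun := fun z => ⟨h₀⁻¹ * z.1.1, hinf ▸ ⟨?_, H.mul_mem (H.inv_mem hh₀) z.1.1.2⟩⟩
        invFun := fun l => ⟨(⟨h₀ * l, H.mul_mem hh₀ (hinf ▸ l.2 : (l : G) ∈ K ⊓ H).2⟩,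
          ⟨(l : G)⁻¹ * k₀, K.mul_mem (K.inv_mem (hinf ▸ l.2 : (l : G) ∈ K ⊓ H).1) hk₀⟩),
          by show h₀ * (l : G) * ((l : G)⁻¹ * k₀) = h₀ * k₀; group⟩
        left_inv := fun z => Subtype.ext (Prod.ext (Subtype.ext (mul_inv_cancel_left _ _))
          (Subtype.ext ?_))
        right_inv := fun l => Subtype.ext (inv_mul_cancel_left _ _) }
    · rw [show h₀⁻¹ * (z.1.1 : G) = k₀ * (z.1.2 : G)⁻¹ by
        rw [eq_mul_inv_iff_mul_eq, mul_assoc, z.2, inv_mul_cancel_left]]
      exact K.mul_mem hk₀ (K.inv_mem z.1.2.2)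
    · show (h₀⁻¹ * (z.1.1 : G))⁻¹ * k₀ = (z.1.2 : G)
      rw [mul_inv_rev, inv_inv, mul_assoc, inv_mul_eq_iff_eq_mul]
      exact z.2.symm
  rw [← Fintype.sum_prod_type' (f := fun (h : H) (k : K) => f ((h : G) * k)),
    ← Finset.sum_fiberwise Finset.univ (fun z : H × K => (z.1 : G) * (z.2 : G)), Finset.mul_sum]
  refine Finset.sum_congr rfl fun x _ => ?_
  rw [Finset.sum_congr rfl (g := fun _ => f x) fun z hz => by rw [(Finset.mem_filter.mp hz).2],
    Finset.sum_const, hfib, nsmul_eq_mul]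

/-- In odd order `x ↦ x^h x` is onto an abelian normal section. -/
theorem exists_twisted_root (K L : Subgroup G) [hK : K.Normal] [L.Normal]
    (hab : ∀ a ∈ K, ∀ b ∈ K, a * b * a⁻¹ * b⁻¹ ∈ L) (hodd : Odd (Nat.card G)) (h : G) {y : G}
    (hy : y ∈ K) : ∃ k ∈ K, (h⁻¹ * k * h * k)⁻¹ * y ∈ L := by
  set π := QuotientGroup.mk' L with hπ
  set Kb := K.map π with hKb
  haveI : Kb.Normal := hK.map π (QuotientGroup.mk'_surjective L)
  have hQodd : Odd (Nat.card (G ⧸ L)) :=
    hodd.of_dvd_nat (Subgroup.card_quotient_dvd_card L)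
  have hcomm : ∀ a ∈ Kb, ∀ b ∈ Kb, a * b = b * a := by
    rintro _ ⟨a, ha, rfl⟩ _ ⟨b, hb, rfl⟩
    rw [← map_mul, ← map_mul, hπ, QuotientGroup.mk'_apply, QuotientGroup.mk'_apply, QuotientGroup.eq]
    have := hab b⁻¹ (K.inv_mem hb) a⁻¹ (K.inv_mem ha)
    simpa [mul_assoc] using this
  set t := π h with ht
  have hmem : ∀ x ∈ Kb, t⁻¹ * x * t * x ∈ Kb := fun x hx => Kb.mul_mem (by
    simpa using Subgroup.Normal.conj_mem inferInstance x hx t⁻¹) hx
  have hinj : Function.Injective fun x : Kb => (⟨t⁻¹ * x * t * x, hmem x x.2⟩ : Kb) := by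
    rintro ⟨a, ha⟩ ⟨b, hb⟩ e
    have e' : t⁻¹ * a * t * a = t⁻¹ * b * t * b := congrArg Subtype.val e
    obtain ⟨z, hzdef⟩ : ∃ z, z = b⁻¹ * a := ⟨_, rfl⟩
    have hz : z ∈ Kb := hzdef ▸ Kb.mul_mem (Kb.inv_mem hb) ha
    have htz : t⁻¹ * z * t = z⁻¹ := by
      have hta : t⁻¹ * a * t ∈ Kb := by simpa using Subgroup.Normal.conj_mem inferInstance a ha t⁻¹
      have htb : (t⁻¹ * b * t)⁻¹ ∈ Kb :=
        Kb.inv_mem (by simpa using Subgroup.Normal.conj_mem inferInstance b hb t⁻¹)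
      have h1 : (t⁻¹ * b * t)⁻¹ * (t⁻¹ * a * t) = b * a⁻¹ := by
        rw [inv_mul_eq_iff_eq_mul, ← mul_assoc, eq_mul_inv_iff_mul_eq]
        exact e'
      rw [hzdef, show t⁻¹ * (b⁻¹ * a) * t = (t⁻¹ * b * t)⁻¹ * (t⁻¹ * a * t) by group, h1,
        mul_inv_rev, inv_inv]
      exact hcomm b hb a⁻¹ (Kb.inv_mem ha)
    have h2 : Commute z (t ^ 2) := by
      show z * t ^ 2 = t ^ 2 * z
      have h3 : z * t = t * z⁻¹ := by rw [← htz]; group
      have h4 : z⁻¹ * t = t * z := by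
        have h5 : t⁻¹ * z⁻¹ * t = z := by rw [← inv_inj]; simpa [mul_assoc] using htz
        calc z⁻¹ * t = t * (t⁻¹ * z⁻¹ * t) := by group
          _ = t * z := by rw [h5]
      rw [sq, ← mul_assoc, h3, mul_assoc, h4, mul_assoc]
    obtain ⟨j, hj⟩ := hQodd.of_dvd_nat (orderOf_dvd_natCard t)
    have h6 : Commute z t := by
      have : (t ^ 2) ^ (j + 1) = t := by
        rw [← pow_mul, show 2 * (j + 1) = orderOf t + 1 by omega, pow_succ, pow_orderOf_eq_one,
          one_mul]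
      rw [← this]
      exact h2.pow_right _
    rw [mul_assoc, h6.eq, inv_mul_cancel_left] at htz
    have hz2 : z ^ 2 = 1 := by rw [sq]; exact mul_eq_one_iff_eq_inv.mpr htz
    have hz1 : z = 1 := by
      rw [← orderOf_eq_one_iff]
      have h7 := orderOf_dvd_of_pow_eq_one hz2
      rcases (Nat.dvd_prime Nat.prime_two).mp h7 with h8 | h8
      · exact h8
      · exact absurd (h8 ▸ orderOf_dvd_natCard z) hQodd.not_two_dvd_nat
    exact Subtype.ext (inv_mul_eq_one.mp (hzdef ▸ hz1)).symm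
  obtain ⟨⟨x, hx⟩, hxy⟩ := Finite.injective_iff_surjective.mp hinj ⟨π y, y, hy, rfl⟩
  obtain ⟨k, hk, rfl⟩ := hx
  refine ⟨k, hk, QuotientGroup.eq.mp ?_⟩
  simpa [hπ, ht] using congrArg Subtype.val hxy

section Operators

variable {V : Type*} [AddCommGroup V] [Module ℂ V] (O : G →* Module.End ℂ V)

/-- The projection onto the fixed points of a subgroup. -/
noncomputable def opAvg (S : Subgroup G) [Fintype S] : Module.End ℂ V :=
  (Nat.card S : ℂ)⁻¹ • ∑ s : S, O (s : G)

variable {O}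

theorem opAvg_fix (S : Subgroup G) [Fintype S] (s : S) : O (s : G) * opAvg O S = opAvg O S := by
  rw [opAvg, mul_smul_comm, Finset.mul_sum]
  congr 1
  exact Fintype.sum_equiv (Equiv.mulLeft s) _ _ fun x => (map_mul O (s : G) (x : G)).symm

theorem opAvg_comm (S : Subgroup G) [S.Normal] [Fintype S] (g : G) :
    O g * opAvg O S = opAvg O S * O g := by
  rw [opAvg, mul_smul_comm, smul_mul_assoc, Finset.mul_sum, Finset.sum_mul]
  congr 1
  refine Fintype.sum_equiv (MulAut.conjNormal g : MulAut S).toEquiv _ _ fun x => ?_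
  rw [← map_mul, ← map_mul]
  congr 1
  simp [mul_assoc]

theorem opAvg_absorb (S : Subgroup G) [Fintype S] (A : Module.End ℂ V)
    (hA : ∀ s : S, O (s : G) * A = A) : opAvg O S * A = A := by
  rw [opAvg, smul_mul_assoc, Finset.sum_mul, Finset.sum_congr rfl fun s _ => hA s, Finset.sum_const,
    Finset.card_univ, ← Nat.cast_smul_eq_nsmul ℂ, smul_smul, ← Nat.card_eq_fintype_card,
    inv_mul_cancel₀ (Nat.cast_ne_zero.mpr Nat.card_pos.ne'), one_smul]

theorem card_smul_opAvg (S : Subgroup G) [Fintype S] :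
    (Nat.card S : ℂ) • opAvg O S = ∑ s : S, O (s : G) :=
  smul_inv_smul₀ (Nat.cast_ne_zero.mpr Nat.card_pos.ne') _

/-- The trace over `H` of an operator inverting `K/L` is the trace over `G`. -/
theorem operator_identity (K L H : Subgroup G) [hK : K.Normal] [hL : L.Normal] [Fintype K] [Fintype L]
    [Fintype H] (hLK : L ≤ K) (hLH : L ≤ H) (hKH : K ⊔ H = ⊤) (hinf : K ⊓ H = L)
    (hab : ∀ a ∈ K, ∀ b ∈ K, a * b * a⁻¹ * b⁻¹ ∈ L) (hodd : Odd (Nat.card G))
    (Jo : Module.End ℂ V)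
    (hinv : ∀ k ∈ K, Jo * O k * opAvg O L = O k⁻¹ * Jo * opAvg O L)
    (hJK : Jo * opAvg O K = opAvg O K) :
    (Nat.card K : ℂ) * ∑ h : H, LinearMap.trace ℂ V (Jo * O (h : G)) =
      (Nat.card L : ℂ) * ∑ g, LinearMap.trace ℂ V (O g) := by
  classical
  obtain ⟨F, hF⟩ : ∃ F : G → ℂ, ∀ g, F g = LinearMap.trace ℂ V (Jo * O g * opAvg O L) :=
    ⟨_, fun _ => rfl⟩
  have hFL : ∀ g, ∀ l ∈ L, F (g * l) = F g := fun g l hl => by
    rw [hF, hF, map_mul O, mul_assoc, mul_assoc, opAvg_fix L ⟨l, hl⟩, ← mul_assoc]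
  have hF2 : ∀ k ∈ K, ∀ g, F (k * g * k⁻¹) = F (g * (k⁻¹ * k⁻¹)) := by
    intro k hk g
    have e : Jo * O (k * g * k⁻¹) * opAvg O L =
        O k⁻¹ * (Jo * (opAvg O L * (O g * O k⁻¹))) := by
      calc Jo * O (k * g * k⁻¹) * opAvg O L = Jo * O k * (O (g * k⁻¹) * opAvg O L) := by
            rw [mul_assoc k g, map_mul O k]; simp only [mul_assoc]
        _ = Jo * O k * opAvg O L * O (g * k⁻¹) := by rw [opAvg_comm]; simp only [mul_assoc]
        _ = _ := by rw [hinv k hk, map_mul O]; simp only [mul_assoc]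
    rw [hF, hF, e, LinearMap.trace_mul_comm, ← mul_assoc (opAvg O L), mul_assoc Jo,
      mul_assoc Jo (O _), opAvg_comm L (g * (k⁻¹ * k⁻¹))]
    simp only [map_mul, mul_assoc]
  have hFK : ∀ h, ∀ y ∈ K, F (h * y) = F h := by
    intro h y hy
    obtain ⟨k, hk, hl⟩ := exists_twisted_root K L hab hodd h hy
    have e1 := hF2 k hk (h * (k * k))
    rw [show h * (k * k) * (k⁻¹ * k⁻¹) = h by group,
      show k * (h * (k * k)) * k⁻¹ = h * (h⁻¹ * k * h * k) by group,
      ← hFL (h * (h⁻¹ * k * h * k)) _ hl] at e1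
    rw [← e1]
    congr 1
    group
  have e1 : opAvg O K * opAvg O L = opAvg O K := by
    have h1 : opAvg O L * opAvg O K = opAvg O K :=
      opAvg_absorb L _ fun l => opAvg_fix K ⟨(l : G), hLK l.2⟩
    have h2 : opAvg O K * opAvg O L = opAvg O L * opAvg O K := by
      conv_lhs => arg 1; rw [opAvg]
      conv_rhs => arg 2; rw [opAvg]
      rw [smul_mul_assoc, mul_smul_comm, Finset.sum_mul, Finset.mul_sum]
      congr 1
      exact Finset.sum_congr rfl fun k _ => opAvg_comm L (k : G)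
    rw [h2, h1]
  have hFsum : ∀ h : G, (Nat.card K : ℂ) * F h = ∑ k : K, LinearMap.trace ℂ V (O (h * k)) := by
    intro h
    have hs : ∑ k : K, F (h * k) = (Nat.card K : ℂ) * F h := by
      rw [Finset.sum_congr rfl fun (k : K) _ => hFK h (k : G) k.2, Finset.sum_const, Finset.card_univ,
        nsmul_eq_mul, Nat.card_eq_fintype_card]
    rw [← hs]
    simp only [hF]
    rw [← map_sum, ← map_sum]
    congr 1
    simp only [map_mul O, ← mul_assoc, ← Finset.sum_mul, ← Finset.mul_sum, ← card_smul_opAvg,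
      mul_smul_comm, smul_mul_assoc]
    congr 1
    rw [mul_assoc (Jo * O h), e1, mul_assoc Jo, opAvg_comm, ← mul_assoc, hJK]
  rw [← sum_prod_eq hKH hinf, ← Finset.sum_congr rfl fun (h : H) _ => hFsum h, ← Finset.mul_sum]
  congr 1
  refine mul_left_cancel₀ (Nat.cast_ne_zero.mpr (Nat.card_pos (α := L)).ne' : (Nat.card L : ℂ) ≠ 0) ?_
  have h2 : ∀ h : H, (Nat.card L : ℂ) * F (h : G) =
      ∑ l : L, LinearMap.trace ℂ V (Jo * O ((h : G) * l)) := by
    intro h
    rw [← map_sum, hF, ← smul_eq_mul, ← map_smul, ← mul_smul_comm, card_smul_opAvg, Finset.mul_sum]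
    congr 1
    exact Finset.sum_congr rfl fun l _ => by rw [map_mul O, mul_assoc]
  rw [Finset.mul_sum (f := fun h : H => F (h : G)), Finset.sum_congr rfl fun h _ => h2 h,
    Finset.sum_comm,
    Finset.sum_congr rfl fun (l : L) _ => show
      ∑ h : H, LinearMap.trace ℂ V (Jo * O ((h : G) * l)) =
        ∑ h : H, LinearMap.trace ℂ V (Jo * O (h : G)) from
      Fintype.sum_equiv (Equiv.mulRight (⟨l, hLH l.2⟩ : H)) _ _ fun h => rfl,
    Finset.sum_const, Finset.card_univ, nsmul_eq_mul, Nat.card_eq_fintype_card]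

end Operators

variable {d : ℕ}

/-- The parity theorem. -/
theorem parity (K L H : Subgroup G) [hK : K.Normal] [hL : L.Normal] [Fintype H]
    (hLK : L ≤ K) (hLH : L ≤ H) (hKH : K ⊔ H = ⊤) (hinf : K ⊓ H = L)
    (hab : ∀ a ∈ K, ∀ b ∈ K, a * b * a⁻¹ * b⁻¹ ∈ L) (hodd : Odd (Nat.card G))
    {T : K →* Mat d} (hT : IsIrrCharacter K fun k => (T k).trace) {P : Mat d} (hP : P * P = 1)
    (hPK : ∀ k, T k * P * T k * P ∈ relSpan T (L.subgroupOf K))
    (hfix : ∀ h ∈ H, ∃ U : (Mat d)ˣ, (∀ k k' : K, (k' : G) = h * k * h⁻¹ →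
      (U : Mat d) * T k * ((U⁻¹ : (Mat d)ˣ) : Mat d) = T k') ∧
        (U : Mat d) * P * ((U⁻¹ : (Mat d)ˣ) : Mat d) = P)
    {χ : G → ℂ} (hχ : IsCharacter G χ) {m : ℕ}
    (hres : ∀ k : K, χ k = (m : ℂ) * (T k).trace) :
    ∃ c : IrrCharacter H → ℤ,
      (∀ (ξ : IrrCharacter H) (b : ℕ), classInner (fun h : H => χ h) (ξ : H → ℂ) = (b : ℂ) →
        c ξ ≡ b [ZMOD 2]) ∧
      ((∑ ξ, c ξ ^ 2 : ℤ) : ℂ) = classInner χ χ := by
  classical
  obtain ⟨n, R, hR⟩ := exists_matrixRep hχ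
  obtain ⟨Φ, hΦ, -⟩ := exists_lift T (R.comp K.subtype) m fun k => (hR (k : G)).trans (hres k)
  replace hΦ : ∀ k : K, R (k : G) = Φ (T k) := hΦ
  set J := Φ P with hJdef
  have hJJ : J * J = 1 := by rw [hJdef, ← map_mul, hP, map_one]
  have hJH : ∀ h ∈ H, Commute J (R h) := by
    intro h hh
    obtain ⟨U, hU, hUP⟩ := hfix h hh
    have he := linearMap_ext hT
      (f := (LinearMap.mulLeft ℂ (R h)).comp ((LinearMap.mulRight ℂ (R h⁻¹)).comp Φ.toLinearMap))
      (f' := Φ.toLinearMap.comp ((LinearMap.mulLeft ℂ (U : Mat d)).comp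
        (LinearMap.mulRight ℂ ((U⁻¹ : (Mat d)ˣ) : Mat d)))) fun k => by
        have h1 : R (h * (k : G) * h⁻¹) = Φ ((U : Mat d) * T k * ((U⁻¹ : (Mat d)ˣ) : Mat d)) := by
          rw [hU k ⟨h * k * h⁻¹, hK.conj_mem _ k.2 h⟩ rfl]
          exact hΦ ⟨h * k * h⁻¹, hK.conj_mem _ k.2 h⟩
        simpa [← mul_assoc, ← hΦ] using h1
    have h2 : R h * J * R h⁻¹ = Φ ((U : Mat d) * P * ((U⁻¹ : (Mat d)ˣ) : Mat d)) := by
      simpa [← mul_assoc, hJdef] using LinearMap.congr_fun he P
    rw [hUP, ← hJdef] at h2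
    show J * R h = R h * J
    conv_lhs => rw [← h2, mul_assoc, ← map_mul, inv_mul_cancel, map_one, mul_one]
  -- the coefficients
  set Δ : H → ℂ := fun h => (J * R (h : G)).trace with hΔ
  choose p q hpq hpq' using fun ξ => exists_coeff (R.comp H.subtype) J hJJ (fun h => hJH h h.2) ξ
  refine ⟨fun ξ => (p ξ : ℤ) - q ξ, fun ξ b hb => ?_, ?_⟩
  · have h1 : (b : ℂ) = ((p ξ + q ξ : ℕ) : ℂ) := by
      rw [← hb, show (fun h : H => χ h) = fun h : H => (R (h : G)).trace from
        funext fun h => (hR _).symm, Nat.cast_add]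
      exact hpq ξ
    obtain rfl : b = p ξ + q ξ := by exact_mod_cast h1
    rw [Int.modEq_iff_dvd]
    exact ⟨(q ξ : ℤ), by push_cast; ring⟩
  have hΔcl : IsClassFunction H Δ := fun a b => by
    have e : R ((b * a * b⁻¹ : H) : G) = R (b : G) * R (a : G) * R (b : G)⁻¹ := by simp
    show (J * R ((b * a * b⁻¹ : H) : G)).trace = _
    rw [e, ← mul_assoc, ← mul_assoc, (hJH b b.2).eq, mul_assoc (R (b : G)), Matrix.trace_mul_cycle,
      ← map_mul, inv_mul_cancel, map_one, one_mul]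
  have hexp : Δ = ∑ ξ : IrrCharacter H, (((p ξ : ℤ) - q ξ : ℤ) : ℂ) • (ξ : H → ℂ) := by
    conv_lhs => rw [classFunction_expansion hΔcl]
    exact Finset.sum_congr rfl fun ξ _ => by push_cast; exact congrArg (· • _) (hpq' ξ)
  have hconj : ∀ h : H, conj (Δ h) = Δ h⁻¹ := by
    intro h
    rw [hexp]
    simp only [Finset.sum_apply, Pi.smul_apply, smul_eq_mul, map_sum, map_mul]
    refine Finset.sum_congr rfl fun ξ _ => ?_
    obtain ⟨f, W, hW⟩ := exists_matrixRep (isCharacter_of_isIrr ξ.2)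
    rw [← hW, ← hW, trace_inv, map_intCast]
  rw [show ((∑ ξ : IrrCharacter H, ((p ξ : ℤ) - q ξ) ^ 2 : ℤ) : ℂ) = classInner Δ Δ by
    rw [hexp]; exact (sum_sq_coeff _).symm]
  -- the operators on matrices
  obtain ⟨O, hO⟩ : ∃ O : G →* Module.End ℂ (Mat n), ∀ g X, O g X = R g * (X * R g⁻¹) :=
    ⟨{ toFun := fun g => LinearMap.mulLeft ℂ (R g) * LinearMap.mulRight ℂ (R g⁻¹)
       map_one' := LinearMap.ext fun X => by simp
       map_mul' := fun a b => LinearMap.ext fun X => by simp [mul_assoc] }, fun g X => rfl⟩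
  obtain ⟨Jo, hJo⟩ : ∃ Jo : Module.End ℂ (Mat n), ∀ X, Jo X = J * (X * J) :=
    ⟨LinearMap.mulLeft ℂ J * LinearMap.mulRight ℂ J, fun X => rfl⟩
  have hfixed : ∀ (S : Subgroup G) (s : S) (X : Mat n), Commute (opAvg O S X) (R (s : G)) := by
    intro S s X
    have h := LinearMap.congr_fun (opAvg_fix (O := O) S s) X
    rw [Module.End.mul_apply, hO] at h
    show opAvg O S X * R (s : G) = R (s : G) * opAvg O S X
    conv_lhs => rw [← h, mul_assoc, mul_assoc, ← map_mul, inv_mul_cancel, map_one, mul_one]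
  have hJK : Jo * opAvg O K = opAvg O K := by
    refine LinearMap.ext fun X => ?_
    rw [Module.End.mul_apply, hJo]
    have := linearMap_ext hT (f := (LinearMap.mulLeft ℂ (opAvg O K X)).comp Φ.toLinearMap)
      (f' := (LinearMap.mulRight ℂ (opAvg O K X)).comp Φ.toLinearMap) fun k => by
        simpa [← hΦ] using (hfixed K k X).eq
    have h1 : opAvg O K X * J = J * opAvg O K X := LinearMap.congr_fun this P
    rw [h1, ← mul_assoc, hJJ, one_mul]
  have hinv : ∀ k ∈ K, Jo * O k * opAvg O L = O k⁻¹ * Jo * opAvg O L := by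
    intro k hk
    refine LinearMap.ext fun X => ?_
    simp only [Module.End.mul_apply, hO, hJo, inv_inv]
    obtain ⟨Y, hY⟩ : ∃ Y, Y = opAvg O L X := ⟨_, rfl⟩
    rw [← hY]
    have hYl : ∀ l ∈ L, Commute Y (R l) := fun l hl => hY ▸ hfixed L ⟨l, hl⟩ X
    have hY' : ∀ l ∈ L, Commute (J * (Y * J)) (R l) := fun l hl =>
      (hJH l (hLH hl)).mul_left ((hYl l hl).mul_left (hJH l (hLH hl)))
    have ha : Commute (J * (Y * J)) (R k * J * R k * J) := by
      have e : R k * J * R k * J = Φ (T ⟨k, hk⟩ * P * T ⟨k, hk⟩ * P) := by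
        rw [map_mul, map_mul, map_mul, ← hΦ ⟨k, hk⟩]
      rw [e]
      generalize hB : T ⟨k, hk⟩ * P * T ⟨k, hk⟩ * P = B
      have hBm : B ∈ relSpan T (L.subgroupOf K) := hB ▸ hPK _
      clear hB e
      induction hBm using Submodule.span_induction with
      | mem B hB => obtain ⟨l, hl, rfl⟩ := hB; rw [← hΦ]; exact hY' _ hl
      | zero => rw [map_zero]; exact Commute.zero_right _
      | add A B _ _ h h' => rw [map_add]; exact h.add_right h'
      | smul c A _ h => rw [map_smul]; exact h.smul_right c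
    have h1 : R k * J * R k * Y = J * (Y * J) * (R k * J * R k) := by
      calc R k * J * R k * Y = R k * J * R k * J * (J * (Y * J)) * J := by
            simp only [mul_assoc, hJJ, mul_one]
            simp only [← mul_assoc J J, hJJ, one_mul]
        _ = J * (Y * J) * (R k * J * R k * J) * J := by rw [ha.eq]
        _ = _ := by simp only [mul_assoc, hJJ, mul_one]
    have hkk : R k⁻¹ * R k = 1 := by rw [← map_mul, inv_mul_cancel, map_one]
    have hkk' : R k * R k⁻¹ = 1 := by rw [← map_mul, mul_inv_cancel, map_one]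
    calc J * (R k * (Y * R k⁻¹) * J) = R k⁻¹ * (R k * J * R k * Y) * R k⁻¹ * J := by
          simp only [← mul_assoc, hkk, one_mul]
      _ = R k⁻¹ * (J * (Y * J)) * R k * (J * (R k * R k⁻¹) * J) := by
          rw [h1]; simp only [mul_assoc]
      _ = _ := by rw [hkk', mul_one, hJJ, mul_one, mul_assoc]
  have hOtr : ∀ g, LinearMap.trace ℂ (Mat n) (O g) = χ g * conj (χ g) := fun g => by
    rw [← hR, ← trace_inv, ← Blocks.PrimeDefect.trace_mul_mul]
    congr 1
    exact LinearMap.ext fun X => hO g X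
  have hJtr : ∀ h : H, LinearMap.trace ℂ (Mat n) (Jo * O (h : G)) = Δ h * conj (Δ h) := fun h => by
    rw [hconj]
    show _ = (J * R (h : G)).trace * (J * R ((h⁻¹ : H) : G)).trace
    rw [Matrix.trace_mul_comm J (R ((h⁻¹ : H) : G)), ← Blocks.PrimeDefect.trace_mul_mul]
    congr 1
    refine LinearMap.ext fun X => ?_
    rw [Module.End.mul_apply, hJo, hO, LinearMap.comp_apply, LinearMap.mulLeft_apply,
      LinearMap.mulRight_apply, Subgroup.coe_inv]
    simp only [mul_assoc]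
  have hA := operator_identity K L H hLK hLH hKH hinf hab hodd Jo hinv hJK
  rw [Finset.sum_congr rfl fun h _ => hJtr h, Finset.sum_congr rfl fun g _ => hOtr g] at hA
  have hB := sum_prod_eq hKH hinf fun _ : G => (1 : ℂ)
  simp only [Finset.sum_const, Finset.card_univ, nsmul_eq_mul, mul_one,
    ← Nat.card_eq_fintype_card] at hB
  simp only [classInner]
  have hcard : ∀ S : Subgroup G, (Nat.card S : ℂ) ≠ 0 := fun S =>
    Nat.cast_ne_zero.mpr Nat.card_pos.ne'
  have h2 : (Nat.card G : ℂ) ≠ 0 := Nat.cast_ne_zero.mpr Nat.card_pos.ne'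
  have h1 := hcard H
  have h3 := hcard K
  refine mul_left_cancel₀ (mul_ne_zero (mul_ne_zero h3 h1) h2) ?_
  field_simp
  refine mul_left_cancel₀ h3 ?_
  linear_combination (Nat.card G : ℂ) * hA - (∑ g, χ g * conj (χ g)) * hB

end CfsgLib.Char.OddSection
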