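import Cfsg.Agent.Lib.Char.OddSection.Core

/-!
# Reduction to an invariant character of the bottom subgroup
-/

set_option autoImplicit false
set_option linter.unusedSectionVars false

namespace CfsgLib.Char.OddSection

open Cfsg CfsgLib.Char.Glauberman CfsgLib.Coprime
open scoped ComplexConjugate CfsgLib.Char

variable {Γ : Type*} [Group Γ] [Fintype Γ]

/-- Membership in the stabiliser as fixed points of the conjugation action. -/
theorem smul_eq_iff_mem_stab {N W : Subgroup Γ} (hW : W ≤ Subgroup.normalizer (N : Set Γ))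
    (φ : IrrCharacter N) (w : W) :
    @HSMul.hSMul W _ _ (@instHSMul _ _ (charAction hW).toSMul) w φ = φ ↔
      (w : Γ) ∈ stab N (φ : N → ℂ) := by
  letI := charAction hW
  refine ⟨fun h => ⟨hW w.2, fun g => ?_⟩, fun h => Subtype.ext (funext fun n => ?_)⟩
  · have h1 := congrFun (congrArg Subtype.val h) (conjEquiv (hW w.2) g)
    exact h1.symm.trans (congrArg (φ : N → ℂ) ((conjEquiv (hW w.2)).symm_apply_apply g))
  · obtain ⟨hy, hy'⟩ := h
    refine Eq.trans ?_ ((hy' _).symm.trans (congrArg (φ : N → ℂ) ((conjEquiv (hW w.2)).apply_symm_apply n)))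
    rfl

/-- Two invariant characters in one orbit of a coprime solvable group are moved by a fixed point. -/
theorem exists_fix_conj_of_orbit {A N S : Subgroup Γ} (hAN : A ≤ Subgroup.normalizer (N : Set Γ))
    (hSN : S ≤ Subgroup.normalizer (N : Set Γ)) (hSA : S ≤ Subgroup.normalizer (A : Set Γ))
    (hcop : (Nat.card S).Coprime (Nat.card A)) (hsolv : Group.IsSolvable A)
    {φ φ' : IrrCharacter N} (hφ : Inv N S (φ : N → ℂ)) (hφ' : Inv N S (φ' : N → ℂ))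
    {g : Γ} (hg : g ∈ A) (h : ∀ n, (φ' : N → ℂ) n = (φ : N → ℂ) (conjEquiv (hAN hg) n)) :
    ∃ c, ∃ hc : c ∈ fix A S, ∀ n, (φ' : N → ℂ) n = (φ : N → ℂ) (conjEquiv (hAN hc.1) n) := by
  classical
  set W := Subgroup.normalizer (N : Set Γ)
  letI := charAction (N := N) (S := W) le_rfl
  set S' := S.subgroupOf W
  set A' := A.subgroupOf W
  have hfix : ∀ ψ : IrrCharacter N, Inv N S (ψ : N → ℂ) → ∀ a ∈ S', a • ψ = ψ := fun ψ hψ a ha =>
    (smul_eq_iff_mem_stab (le_refl W) ψ a).mpr ((inv_iff_le_stab hSN).mp hψ ha)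
  have hgφ : (⟨g, hAN hg⟩ : W)⁻¹ • φ = φ' := Subtype.ext (funext fun n => by
    rw [h]
    exact congrArg (φ : N → ℂ) (Subtype.ext (by simp [conjEquiv])))
  have hSA' : S' ≤ Subgroup.normalizer (A' : Set W) := fun a ha =>
    Subgroup.mem_normalizer_iff.mpr fun x => Subgroup.mem_normalizer_iff.mp (hSA ha) (x : Γ)
  have hsolv' : Group.IsSolvable S' ∨ Group.IsSolvable A' := by
    haveI := hsolv
    exact Or.inr (Group.isSolvable_of_surjective (f := (Subgroup.subgroupOfEquivOfLe hAN).symm.toMonoidHom)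
      (Subgroup.subgroupOfEquivOfLe hAN).symm.surjective)
  have hcop' : (Nat.card S').Coprime (Nat.card A') := by
    rw [Nat.card_congr (Subgroup.subgroupOfEquivOfLe hSN).toEquiv,
      Nat.card_congr (Subgroup.subgroupOfEquivOfLe hAN).toEquiv]
    exact hcop
  obtain ⟨c, hc, hce⟩ := exists_centralizer_smul hSA' hcop' hsolv' (hfix φ hφ)
    (A'.inv_mem (show (⟨g, hAN hg⟩ : W) ∈ A' from hg)) (by rw [hgφ]; exact hfix φ' hφ')
  rw [hgφ] at hce
  refine ⟨(c : Γ)⁻¹, ⟨A.inv_mem hc.1, Subgroup.inv_mem _ (Subgroup.mem_centralizer_iff.mpr fun s hs =>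
    congrArg Subtype.val (Subgroup.mem_centralizer_iff.mp hc.2 ⟨s, hSN hs⟩ hs))⟩, fun n => ?_⟩
  rw [← hce]
  exact congrArg (φ : N → ℂ) (Subtype.ext (by simp [conjEquiv]))

namespace Data

variable {G K L H S : Subgroup Γ} (D : Data G K L H S)

include D

/-- Passing to the stabiliser of an invariant character of `L`. -/
theorem restrict [Fintype L] {φ : IrrCharacter L} (hφ : Inv L S (φ : L → ℂ)) :
    Data (G ⊓ stab L (φ : L → ℂ)) (K ⊓ stab L (φ : L → ℂ)) L (H ⊓ stab L (φ : L → ℂ)) S := by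
  classical
  set st := stab L (φ : L → ℂ) with hst
  have hLst : L ≤ st := fun l hl => ⟨Subgroup.le_normalizer hl, fun g => by
    rw [← isClassFunction_irr φ g ⟨l, hl⟩]
    exact congrArg (φ : L → ℂ) (Subtype.ext rfl)⟩
  have hSst : S ≤ st := (inv_iff_le_stab D.hSL).mp hφ
  have hstn : st ≤ Subgroup.normalizer (st : Set Γ) := Subgroup.le_normalizer
  set C := fix G S with hC
  have hCG : C ≤ G := inf_le_left
  have hfixle : fix (G ⊓ st) S = C ⊓ st := by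
    show (G ⊓ st) ⊓ _ = (G ⊓ _) ⊓ st
    rw [inf_right_comm]
  refine
    { hLK := le_inf D.hLK hLst
      hKG := inf_le_inf_right _ D.hKG
      hLH := le_inf D.hLH hLst
      hHG := inf_le_inf_right _ D.hHG
      hKn := le_normalizer_inf_of_le (inf_le_left.trans D.hKn) (inf_le_right.trans hstn)
      hLn := inf_le_left.trans D.hLn
      hSG := le_normalizer_inf_of_le D.hSG (hSst.trans hstn)
      hSK := le_normalizer_inf_of_le D.hSK (hSst.trans hstn)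
      hSL := D.hSL
      hSH := le_normalizer_inf_of_le D.hSH (hSst.trans hstn)
      cop := D.cop.coprime_dvd_left (Subgroup.card_dvd_of_le inf_le_left)
      solv := isSolvable_of_le inf_le_left D.solv
      odd := D.odd.of_dvd_nat (Subgroup.card_dvd_of_le inf_le_left)
      abelian := fun a ha b hb => D.abelian a ha.1 b hb.1
      hgen := ?_
      hH := ?_
      hinf := ?_ }
  · refine le_antisymm (sup_le (inf_le_inf_right _ D.hKG) inf_le_left) ?_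
    rintro g ⟨hgG, hgst⟩
    have hg : g ∈ ((K ⊔ C : Subgroup Γ) : Set Γ) := by rw [hC, D.hgen]; exact hgG
    rw [Subgroup.coe_mul_of_right_le_normalizer_left K C (hCG.trans D.hKn), Set.mem_mul] at hg
    obtain ⟨k, hk, c, hc, rfl⟩ := hg
    suffices hcst : c ∈ st by
      refine Subgroup.mul_mem_sup ⟨hk, ?_⟩ (hfixle ▸ ⟨hc, hcst⟩)
      have := st.mul_mem hgst (st.inv_mem hcst)
      rwa [mul_inv_cancel_right] at this
    have hcL : c ∈ Subgroup.normalizer (L : Set Γ) := D.hLn hc.1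
    set φc : IrrCharacter L :=
      ⟨fun n => (φ : L → ℂ) (conjEquiv (inv_mem hcL) n), isIrrCharacter_comp_mulEquiv _ φ.2⟩
    have hφc : Inv L S (φc : L → ℂ) := by
      intro s hs g g' eg
      refine hφ s hs _ _ ?_
      have h1 : s * c⁻¹ = c⁻¹ * s :=
        Subgroup.mem_centralizer_iff.mp (Subgroup.inv_mem _ hc.2) s hs
      show c⁻¹ * (g' : Γ) * c⁻¹⁻¹ = s * (c⁻¹ * (g : Γ) * c⁻¹⁻¹) * s⁻¹
      rw [eg, show c⁻¹ * (s * (g : Γ) * s⁻¹) * c⁻¹⁻¹ = (c⁻¹ * s) * g * (c⁻¹ * s)⁻¹ by group, ← h1]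
      group
    obtain ⟨hy, hy'⟩ := hgst
    obtain ⟨e, he, hee⟩ := exists_fix_conj_of_orbit (D.hKG.trans D.hLn) D.hSL D.hSK D.copK D.solvK
      hφ hφc hk fun n => by
        show (φ : L → ℂ) (conjEquiv (inv_mem hcL) n) = _
        rw [← hy' (conjEquiv (inv_mem hcL) n)]
        exact congrArg (φ : L → ℂ) (Subtype.ext (by simp [mul_assoc]))
    have heL : e ∈ L := D.fixK_le he
    obtain ⟨hz, hz'⟩ := hLst heL
    suffices c⁻¹ ∈ st from inv_inv c ▸ st.inv_mem this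
    exact ⟨inv_mem hcL, fun n => (hee n).trans (hz' n)⟩
  · refine le_antisymm (sup_le (le_inf D.hLH hLst) ?_) ?_
    · rw [hfixle]; exact inf_le_inf_right _ (D.hH ▸ le_sup_right)
    rintro h ⟨hhH, hhst⟩
    have hh : h ∈ ((L ⊔ C : Subgroup Γ) : Set Γ) := by rw [hC, D.hH]; exact hhH
    rw [Subgroup.coe_mul_of_right_le_normalizer_left L C (hCG.trans D.hLn), Set.mem_mul] at hh
    obtain ⟨l, hl, c, hc, rfl⟩ := hh
    refine Subgroup.mul_mem_sup hl (hfixle ▸ ⟨hc, ?_⟩)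
    have := st.mul_mem (st.inv_mem (hLst hl)) hhst
    rwa [inv_mul_cancel_left] at this
  · rw [inf_inf_inf_comm, inf_idem, D.hinf, inf_eq_left.mpr hLst]

/-- An invariant irreducible character has an invariant constituent in `L`. -/
theorem exists_below {A : Subgroup Γ} [Fintype A] [Fintype L] (hLA : L ≤ A) (hAG : A ≤ G)
    (hSA : S ≤ Subgroup.normalizer (A : Set Γ)) (χ : IrrCharacter A) (hχ : Inv A S (χ : A → ℂ)) :
    ∃ φ : IrrCharacter L, classInner (res hLA (χ : A → ℂ)) (φ : L → ℂ) ≠ 0 ∧ Inv L S (φ : L → ℂ) := by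
  haveI : (L.subgroupOf A).Normal :=
    (Subgroup.normal_subgroupOf_iff_le_normalizer hLA).mpr (hAG.trans D.hLn)
  haveI := isSolvable_of_le hAG D.solv
  exact Cfsg.Agent.S4447.result A S L
    (fun s hs g hg => (Subgroup.mem_normalizer_iff.mp (hSA hs) g).mp hg) hLA
    (fun s hs l hl => (Subgroup.mem_normalizer_iff.mp (D.hSL hs) l).mp hl)
    (D.cop.coprime_dvd_left ((Subgroup.index_dvd_card _).trans (Subgroup.card_dvd_of_le hAG)))
    (Or.inr (Group.isSolvable_of_surjective (QuotientGroup.mk'_surjective _))) χ hχ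

/-- An invariant constituent of an invariant constituent on `H` can be replaced by `φ`. -/
theorem over_transfer [Fintype G] [Fintype H] [Fintype L] {χ : IrrCharacter G} {ψ : IrrCharacter H}
    {φ φ' : IrrCharacter L} (hφ : Inv L S (φ : L → ℂ)) (hφ' : Inv L S (φ' : L → ℂ))
    (h : classInner (res (D.hLK.trans D.hKG) (χ : G → ℂ)) (φ : L → ℂ) ≠ 0)
    (h' : classInner (res (D.hLK.trans D.hKG) (χ : G → ℂ)) (φ' : L → ℂ) ≠ 0)
    (hψ : classInner (res D.hLH (ψ : H → ℂ)) (φ' : L → ℂ) ≠ 0) :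
    classInner (res D.hLH (ψ : H → ℂ)) (φ : L → ℂ) ≠ 0 := by
  obtain ⟨g, hg, hge⟩ := exists_conj_constituent (D.hLK.trans D.hKG) D.hLn χ.2 φ'.2 φ.2 h' h
  obtain ⟨c, hc, hce⟩ := exists_fix_conj_of_orbit D.hLn D.hSL D.hSG D.cop.symm D.solv hφ' hφ hg
    (congrFun hge)
  have hcH : c ∈ H := D.hH ▸ Subgroup.mem_sup_right hc
  have h1 := classInner_res_conj D.hLH (χ := (ψ : H → ℂ)) (φ' : L → ℂ)
    (Subgroup.le_normalizer hcH) (D.hLn hc.1)
  rw [show (fun g => (ψ : H → ℂ) (conjEquiv (Subgroup.le_normalizer hcH) g)) = ψ from funext fun g => by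
      rw [← isClassFunction_irr ψ g ⟨c, hcH⟩]
      exact congrArg (ψ : H → ℂ) (Subtype.ext rfl),
    show (fun n => (φ' : L → ℂ) (conjEquiv (D.hLn hc.1) n)) = φ from (funext hce).symm] at h1
  exact h1.trans_ne hψ

/-- The three properties of the correspondence. -/
theorem correspondence [Fintype G] [Fintype H] :
    (∀ χ : IrrCharacter G, Inv G S (χ : G → ℂ) → ∃! ψ : IrrCharacter H, Inv H S (ψ : H → ℂ) ∧
      ∃ m : ℕ, classInner (res D.hHG (χ : G → ℂ)) (ψ : H → ℂ) = (m : ℂ) ∧ Odd m) ∧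
    (∀ χ χ' : IrrCharacter G, Inv G S (χ : G → ℂ) → Inv G S (χ' : G → ℂ) →
      ∀ ψ : IrrCharacter H, Inv H S (ψ : H → ℂ) → ∀ m m' : ℕ,
        classInner (res D.hHG (χ : G → ℂ)) (ψ : H → ℂ) = (m : ℂ) → Odd m →
        classInner (res D.hHG (χ' : G → ℂ)) (ψ : H → ℂ) = (m' : ℂ) → Odd m' → χ = χ') ∧
    (∀ ψ : IrrCharacter H, Inv H S (ψ : H → ℂ) → ∃ χ : IrrCharacter G, Inv G S (χ : G → ℂ) ∧
      ∃ m : ℕ, classInner (res D.hHG (χ : G → ℂ)) (ψ : H → ℂ) = (m : ℂ) ∧ Odd m) := by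
  classical
  haveI := Fintype.ofFinite L
  set hLG := D.hLK.trans D.hKG
  have key : ∀ φ : IrrCharacter L, Inv L S (φ : L → ℂ) →
      (∀ χ : IrrCharacter G, Inv G S (χ : G → ℂ) → classInner (res hLG (χ : G → ℂ)) (φ : L → ℂ) ≠ 0 →
        ∃ ψ₀ : IrrCharacter H, Inv H S (ψ₀ : H → ℂ) ∧
          (∃ m : ℕ, classInner (res D.hHG (χ : G → ℂ)) (ψ₀ : H → ℂ) = (m : ℂ) ∧ Odd m) ∧
          ∀ (ψ : IrrCharacter H) (m : ℕ), Inv H S (ψ : H → ℂ) →
            classInner (res D.hLH (ψ : H → ℂ)) (φ : L → ℂ) ≠ 0 →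
            classInner (res D.hHG (χ : G → ℂ)) (ψ : H → ℂ) = (m : ℂ) → Odd m → ψ = ψ₀) ∧
      (∀ χ χ' : IrrCharacter G, Inv G S (χ : G → ℂ) → Inv G S (χ' : G → ℂ) →
        classInner (res hLG (χ : G → ℂ)) (φ : L → ℂ) ≠ 0 →
        classInner (res hLG (χ' : G → ℂ)) (φ : L → ℂ) ≠ 0 →
        ∀ ψ : IrrCharacter H, classInner (res D.hLH (ψ : H → ℂ)) (φ : L → ℂ) ≠ 0 →
          Inv H S (ψ : H → ℂ) → ∀ m m' : ℕ,
          classInner (res D.hHG (χ : G → ℂ)) (ψ : H → ℂ) = (m : ℂ) → Odd m →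
          classInner (res D.hHG (χ' : G → ℂ)) (ψ : H → ℂ) = (m' : ℂ) → Odd m' → χ = χ') ∧
      (∀ ψ : IrrCharacter H, Inv H S (ψ : H → ℂ) →
        classInner (res D.hLH (ψ : H → ℂ)) (φ : L → ℂ) ≠ 0 →
        ∃ χ : IrrCharacter G, Inv G S (χ : G → ℂ) ∧
          ∃ m : ℕ, classInner (res D.hHG (χ : G → ℂ)) (ψ : H → ℂ) = (m : ℂ) ∧ Odd m) := by
    intro φ hφ
    have D₀ := D.restrict hφ
    set G₀ := G ⊓ stab L (φ : L → ℂ) with hG₀
    set H₀ := H ⊓ stab L (φ : L → ℂ) with hH₀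
    haveI := Fintype.ofFinite G₀
    haveI := Fintype.ofFinite H₀
    have hHn : H ≤ Subgroup.normalizer (L : Set Γ) := D.hHG.trans D.hLn
    obtain ⟨hG1, hG2⟩ := clifford_pair hLG D.hLn (φ := φ) hG₀
    obtain ⟨hH1, hH2⟩ := clifford_pair D.hLH hHn (φ := φ) hH₀
    obtain ⟨cA, cB, cC⟩ := D₀.core hφ (inf_le_right : G₀ ≤ stab L (φ : L → ℂ))
    have hGle : G₀ ≤ G := inf_le_left
    have hHle : H₀ ≤ H := inf_le_left
    have hL0 : L ≤ H₀ := D₀.hLH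
    have hL0' : L ≤ G₀ := D₀.hLK.trans D₀.hKG
    -- multiplicities
    have hmult : ∀ (χ : IrrCharacter G) (χ₀ : IrrCharacter G₀) (ψ : IrrCharacter H) (ξ : IrrCharacter H₀),
        classInner (res hGle (χ : G → ℂ)) (χ₀ : G₀ → ℂ) = 1 →
        (∀ η : IrrCharacter G₀, classInner (res hL0' (η : G₀ → ℂ)) (φ : L → ℂ) ≠ 0 →
          classInner (res hGle (χ : G → ℂ)) (η : G₀ → ℂ) ≠ 0 → η = χ₀) →
        classInner (res hL0 (ξ : H₀ → ℂ)) (φ : L → ℂ) ≠ 0 →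
        classInner (res hHle (ψ : H → ℂ)) (ξ : H₀ → ℂ) = 1 →
        (∀ η : IrrCharacter H, classInner (res hHle (η : H → ℂ)) (ξ : H₀ → ℂ) ≠ 0 → η = ψ) →
        classInner (res D.hHG (χ : G → ℂ)) (ψ : H → ℂ) =
          classInner (res D₀.hHG (χ₀ : G₀ → ℂ)) (ξ : H₀ → ℂ) := by
      intro χ χ₀ ψ ξ e1 u1 hξ e2 u2
      have a1 := classInner_res_trans hGle D₀.hHG (isCharacter_of_isIrr χ.2) (ξ : H₀ → ℂ)
      have a2 := classInner_res_trans D.hHG hHle (isCharacter_of_isIrr χ.2) (ξ : H₀ → ℂ)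
      rw [Finset.sum_eq_single χ₀ (fun η _ hne => ?_) (fun h => absurd (Finset.mem_univ _) h), e1,
        one_mul] at a1
      · rw [Finset.sum_eq_single ψ (fun η _ hne => ?_) (fun h => absurd (Finset.mem_univ _) h), e2,
          mul_one] at a2
        · exact a2.symm.trans a1
        · refine mul_eq_zero_of_right _ ?_
          by_contra h0
          exact hne (u2 η h0)
      · by_contra h0
        obtain ⟨h3, h4⟩ := mul_ne_zero_iff.mp h0
        exact hne (u1 η (over_trans D₀.hHG hL0 (isCharacter_of_isIrr η.2) (isCharacter_of_isIrr φ.2) h4 hξ) h3)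
    -- invariance passes down and up
    have hInvG : ∀ (χ : IrrCharacter G) (χ₀ : IrrCharacter G₀),
        classInner (res hL0' (χ₀ : G₀ → ℂ)) (φ : L → ℂ) ≠ 0 →
        classInner (res hGle (χ : G → ℂ)) (χ₀ : G₀ → ℂ) = 1 →
        ((∀ η : IrrCharacter G₀, classInner (res hL0' (η : G₀ → ℂ)) (φ : L → ℂ) ≠ 0 →
          classInner (res hGle (χ : G → ℂ)) (η : G₀ → ℂ) ≠ 0 → η = χ₀) →
          Inv G S (χ : G → ℂ) → Inv G₀ S (χ₀ : G₀ → ℂ)) ∧
        ((∀ χ' : IrrCharacter G, classInner (res hGle (χ' : G → ℂ)) (χ₀ : G₀ → ℂ) ≠ 0 → χ' = χ) →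
          Inv G₀ S (χ₀ : G₀ → ℂ) → Inv G S (χ : G → ℂ)) := by
      intro χ χ₀ h0 e1
      refine ⟨fun u hχ => (inv_iff_forall_conj D₀.hSG _).mpr fun s hs => ?_,
        fun u hχ₀ => (inv_iff_forall_conj D.hSG _).mpr fun s hs => ?_⟩
      · refine congrArg Subtype.val (u ⟨_, isIrrCharacter_comp_mulEquiv (conjEquiv (D₀.hSG hs)) χ₀.2⟩ ?_ ?_)
        · have h1 := classInner_res_conj hL0' (χ := (χ₀ : G₀ → ℂ)) (φ : L → ℂ) (D₀.hSG hs) (D.hSL hs)
          rw [show (fun n => (φ : L → ℂ) (conjEquiv (D.hSL hs) n)) = φ from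
            funext fun n => hφ s hs n _ rfl] at h1
          exact h1.trans_ne h0
        · have h1 := classInner_res_conj hGle (χ := (χ : G → ℂ)) (χ₀ : G₀ → ℂ) (D.hSG hs) (D₀.hSG hs)
          rw [show (fun g => (χ : G → ℂ) (conjEquiv (D.hSG hs) g)) = χ from
            funext fun g => hχ s hs g _ rfl, e1] at h1
          exact h1.trans_ne one_ne_zero
      · refine congrArg Subtype.val (u ⟨_, isIrrCharacter_comp_mulEquiv (conjEquiv (D.hSG hs)) χ.2⟩ ?_)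
        have h1 := classInner_res_conj hGle (χ := (χ : G → ℂ)) (χ₀ : G₀ → ℂ) (D.hSG hs) (D₀.hSG hs)
        rw [show (fun g => (χ₀ : G₀ → ℂ) (conjEquiv (D₀.hSG hs) g)) = χ₀ from
          funext fun g => hχ₀ s hs g _ rfl, e1] at h1
        exact h1.trans_ne one_ne_zero
    have hInvH : ∀ (ψ : IrrCharacter H) (ξ : IrrCharacter H₀),
        classInner (res hL0 (ξ : H₀ → ℂ)) (φ : L → ℂ) ≠ 0 →
        classInner (res hHle (ψ : H → ℂ)) (ξ : H₀ → ℂ) = 1 →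
        ((∀ η : IrrCharacter H₀, classInner (res hL0 (η : H₀ → ℂ)) (φ : L → ℂ) ≠ 0 →
          classInner (res hHle (ψ : H → ℂ)) (η : H₀ → ℂ) ≠ 0 → η = ξ) →
          Inv H S (ψ : H → ℂ) → Inv H₀ S (ξ : H₀ → ℂ)) ∧
        ((∀ η : IrrCharacter H, classInner (res hHle (η : H → ℂ)) (ξ : H₀ → ℂ) ≠ 0 → η = ψ) →
          Inv H₀ S (ξ : H₀ → ℂ) → Inv H S (ψ : H → ℂ)) := by
      intro ψ ξ h0 e1
      refine ⟨fun u hψ => (inv_iff_forall_conj D₀.hSH _).mpr fun s hs => ?_,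
        fun u hξ => (inv_iff_forall_conj D.hSH _).mpr fun s hs => ?_⟩
      · refine congrArg Subtype.val (u ⟨_, isIrrCharacter_comp_mulEquiv (conjEquiv (D₀.hSH hs)) ξ.2⟩ ?_ ?_)
        · have h1 := classInner_res_conj hL0 (χ := (ξ : H₀ → ℂ)) (φ : L → ℂ) (D₀.hSH hs) (D.hSL hs)
          rw [show (fun n => (φ : L → ℂ) (conjEquiv (D.hSL hs) n)) = φ from
            funext fun n => hφ s hs n _ rfl] at h1
          exact h1.trans_ne h0
        · have h1 := classInner_res_conj hHle (χ := (ψ : H → ℂ)) (ξ : H₀ → ℂ) (D.hSH hs) (D₀.hSH hs)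
          rw [show (fun g => (ψ : H → ℂ) (conjEquiv (D.hSH hs) g)) = ψ from
            funext fun g => hψ s hs g _ rfl, e1] at h1
          exact h1.trans_ne one_ne_zero
      · refine congrArg Subtype.val (u ⟨_, isIrrCharacter_comp_mulEquiv (conjEquiv (D.hSH hs)) ψ.2⟩ ?_)
        have h1 := classInner_res_conj hHle (χ := (ψ : H → ℂ)) (ξ : H₀ → ℂ) (D.hSH hs) (D₀.hSH hs)
        rw [show (fun g => (ξ : H₀ → ℂ) (conjEquiv (D₀.hSH hs) g)) = ξ from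
          funext fun g => hξ s hs g _ rfl, e1] at h1
        exact h1.trans_ne one_ne_zero
    -- from a character of `H` to one of `H₀` with all the attached facts
    have hdown : ∀ ψ : IrrCharacter H, Inv H S (ψ : H → ℂ) →
        classInner (res D.hLH (ψ : H → ℂ)) (φ : L → ℂ) ≠ 0 →
        ∃ ξ : IrrCharacter H₀, Inv H₀ S (ξ : H₀ → ℂ) ∧
          classInner (res hL0 (ξ : H₀ → ℂ)) (φ : L → ℂ) ≠ 0 ∧
          classInner (res hHle (ψ : H → ℂ)) (ξ : H₀ → ℂ) = 1 ∧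
          ∀ η : IrrCharacter H, classInner (res hHle (η : H → ℂ)) (ξ : H₀ → ℂ) ≠ 0 → η = ψ := by
      intro ψ hψ h
      obtain ⟨ξ, x0, x1, x2⟩ := hH1 ψ h
      obtain ⟨ψ', -, -, y2⟩ := hH2 ξ x0
      have hψ' : ψ = ψ' := y2 ψ (by rw [x1]; exact one_ne_zero)
      exact ⟨ξ, (hInvH ψ ξ x0 x1).1 x2 hψ, x0, x1, fun η hη => (y2 η hη).trans hψ'.symm⟩
    refine ⟨fun χ hχ h => ?_, fun χ χ' hχ hχ' h h' ψ hψφ hψ m m' hm hmo hm' hmo' => ?_, fun ψ hψ hψφ => ?_⟩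
    · obtain ⟨χ₀, x0, x1, x2⟩ := hG1 χ h
      obtain ⟨ξ₀, z0, z1, z2⟩ := cA χ₀ ((hInvG χ χ₀ x0 x1).1 x2 hχ) x0
      obtain ⟨ψ₀, w0, w1, w2⟩ := hH2 ξ₀ z1
      have hm := hmult χ χ₀ ψ₀ ξ₀ x1 x2 z1 w1 w2
      obtain ⟨m₀, hm₀⟩ := exists_nat_classInner (isCharacter_res D₀.hHG (isCharacter_of_isIrr χ₀.2))
        (isCharacter_of_isIrr ξ₀.2)
      refine ⟨ψ₀, (hInvH ψ₀ ξ₀ z1 w1).2 w2 z0, ⟨m₀, hm.trans hm₀, (z2 ξ₀ m₀ hm₀).mpr rfl⟩,
        fun ψ m hψ hψφ hψm hmo => ?_⟩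
      obtain ⟨ξ, -, v0, v1, v2⟩ := hdown ψ hψ hψφ
      obtain rfl : ξ = ξ₀ := (z2 ξ m ((hmult χ χ₀ ψ ξ x1 x2 v0 v1 v2).symm.trans hψm)).mp hmo
      exact w2 ψ (by rw [v1]; exact one_ne_zero)
    · obtain ⟨χ₀, x0, x1, x2⟩ := hG1 χ h
      obtain ⟨χ₀', x0', x1', x2'⟩ := hG1 χ' h'
      obtain ⟨ξ, -, v0, v1, v2⟩ := hdown ψ hψ hψφ
      obtain rfl : χ₀ = χ₀' := cB χ₀ χ₀' ((hInvG χ χ₀ x0 x1).1 x2 hχ)
        ((hInvG χ' χ₀' x0' x1').1 x2' hχ') x0 x0' ξ m m'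
        ((hmult χ χ₀ ψ ξ x1 x2 v0 v1 v2).symm.trans hm) hmo
        ((hmult χ' χ₀' ψ ξ x1' x2' v0 v1 v2).symm.trans hm') hmo'
      obtain ⟨χ'', -, -, y2⟩ := hG2 χ₀ x0
      exact (y2 χ (by rw [x1]; exact one_ne_zero)).trans (y2 χ' (by rw [x1']; exact one_ne_zero)).symm
    · obtain ⟨ξ, hξ, v0, v1, v2⟩ := hdown ψ hψ hψφ
      obtain ⟨χ₀, z0, z1, m, hm, hmo⟩ := cC ξ hξ v0
      obtain ⟨χ, y0, y1, y2⟩ := hG2 χ₀ z1
      obtain ⟨χ₁, -, -, x2⟩ := hG1 χ y0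
      obtain rfl : χ₀ = χ₁ := x2 χ₀ z1 (by rw [y1]; exact one_ne_zero)
      exact ⟨χ, (hInvG χ χ₀ z1 y1).2 y2 z0, m, (hmult χ χ₀ ψ ξ y1 x2 v0 v1 v2).trans hm, hmo⟩
  refine ⟨fun χ hχ => ?_, fun χ χ' hχ hχ' ψ hψ m m' hm hmo hm' hmo' => ?_, fun ψ hψ => ?_⟩
  · obtain ⟨φ, hφ, hφS⟩ := D.exists_below hLG le_rfl D.hSG χ hχ
    obtain ⟨ψ₀, h1, h2, h3⟩ := (key φ hφS).1 χ hχ hφ
    refine ⟨ψ₀, ⟨h1, h2⟩, ?_⟩
    rintro ψ ⟨hψ, m, hm, hmo⟩
    obtain ⟨φ', hφ', hφ'S⟩ := D.exists_below D.hLH D.hHG D.hSH ψ hψ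
    refine h3 ψ m hψ (D.over_transfer hφS hφ'S hφ ?_ hφ') hm hmo
    exact over_trans D.hHG D.hLH (isCharacter_of_isIrr χ.2) (isCharacter_of_isIrr φ'.2)
      (by rw [hm, Nat.cast_ne_zero]; exact hmo.pos.ne') hφ'
  · obtain ⟨φ, hφ, hφS⟩ := D.exists_below D.hLH D.hHG D.hSH ψ hψ
    exact (key φ hφS).2.1 χ χ' hχ hχ'
      (over_trans D.hHG D.hLH (isCharacter_of_isIrr χ.2) (isCharacter_of_isIrr φ.2)
        (by rw [hm, Nat.cast_ne_zero]; exact hmo.pos.ne') hφ)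
      (over_trans D.hHG D.hLH (isCharacter_of_isIrr χ'.2) (isCharacter_of_isIrr φ.2)
        (by rw [hm', Nat.cast_ne_zero]; exact hmo'.pos.ne') hφ) ψ hφ hψ m m' hm hmo hm' hmo'
  · obtain ⟨φ, hφ, hφS⟩ := D.exists_below D.hLH D.hHG D.hSH ψ hψ
    exact (key φ hφS).2.2 ψ hψ hφ

end Data

end CfsgLib.Char.OddSection
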